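import Groth.Prelude.Def_W4c1liftfrobW2
import Mathlib

/-!
# Liftings over the Witt vectors of length two
-/

set_option autoImplicit false

universe u

open FrobAlg

namespace Groth.Agent.W2Lift

variable (p : ℕ) [Fact p.Prime] (k : Type u) [Field k] [CharP k p] [PerfectRing k p]

theorem res_p : res p k (p : W2 p k) = 0 := by rw [map_natCast, CharP.cast_eq_zero]

theorem ker_res : RingHom.ker (res p k) = Ideal.span {(p : W2 p k)} := by
  apply le_antisymm
  · intro x hx
    obtain ⟨X, rfl⟩ := WittVector.truncate_surjective p 2 k x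
    rw [RingHom.mem_ker, res_truncate] at hx
    obtain ⟨c, hc⟩ := (frobeniusEquiv k p).surjective (X.coeff 1)
    rw [Ideal.mem_span_singleton]
    refine ⟨WittVector.truncate 2 (WittVector.teichmuller p c), ?_⟩
    apply TruncatedWittVector.ext
    intro i
    rw [← map_natCast (WittVector.truncate (p := p) (R := k) 2) p, ← map_mul,
      WittVector.coeff_truncate, WittVector.coeff_truncate, mul_comm]
    match i with
    | ⟨0, _⟩ => rw [WittVector.mul_charP_coeff_zero]; exact hx
    | ⟨1, _⟩ =>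
      rw [WittVector.mul_charP_coeff_succ, WittVector.teichmuller_coeff_zero, ← hc, frobeniusEquiv_apply, frobenius_def]
  · rw [Ideal.span_le, Set.singleton_subset_iff]
    exact res_p p k

theorem p_mul_p : (p : W2 p k) * p = 0 := by
  apply TruncatedWittVector.ext
  intro i
  rw [← map_natCast (WittVector.truncate (p := p) (R := k) 2) p, ← map_mul,
    WittVector.coeff_truncate, ← map_zero (WittVector.truncate (p := p) (R := k) 2),
    WittVector.coeff_truncate]
  match i with
  | ⟨0, _⟩ => rw [WittVector.mul_charP_coeff_zero]; simp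
  | ⟨1, _⟩ => rw [WittVector.mul_charP_coeff_succ, WittVector.coeff_p_zero, zero_pow (Fact.out : p.Prime).ne_zero]; simp

theorem eq_mul_of_p_mul {x : W2 p k} (h : (p : W2 p k) * x = 0) : x ∈ Ideal.span {(p : W2 p k)} := by
  rw [← ker_res, RingHom.mem_ker]
  obtain ⟨X, rfl⟩ := WittVector.truncate_surjective p 2 k x
  rw [res_truncate]
  rw [← map_natCast (WittVector.truncate (p := p) (R := k) 2) p, ← map_mul, mul_comm] at h
  have h1 := congrArg (fun z : W2 p k => z.coeff ⟨1, by omega⟩) h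
  simp only [WittVector.coeff_truncate] at h1
  rw [WittVector.mul_charP_coeff_succ, ← map_zero (WittVector.truncate (p := p) (R := k) 2),
    WittVector.coeff_truncate, WittVector.zero_coeff] at h1
  exact eq_zero_of_pow_eq_zero h1

theorem res_surjective : Function.Surjective (res p k) := fun a =>
  ⟨WittVector.truncate 2 (WittVector.teichmuller p a), by
    rw [res_truncate, WittVector.teichmuller_coeff_zero]⟩

theorem isUnit_of_res_ne_zero {x : W2 p k} (h : res p k x ≠ 0) : IsUnit x := by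
  obtain ⟨y, hy⟩ := res_surjective p k (res p k x)⁻¹
  have hxy : x * y - 1 ∈ RingHom.ker (res p k) := by
    rw [RingHom.mem_ker, map_sub, map_mul, map_one, hy, mul_inv_cancel₀ h, sub_self]
  rw [ker_res, Ideal.mem_span_singleton] at hxy
  obtain ⟨z, hz⟩ := hxy
  refine isUnit_of_mul_isUnit_left (y := y) ?_
  rw [← sub_add_cancel (x * y) 1, hz]
  exact IsNilpotent.isUnit_add_one ⟨2, by rw [mul_pow, pow_two (p : W2 p k), p_mul_p, zero_mul]⟩

variable {k} {B : Type u} [CommRing B] (ι : W2 p k →+* B)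

theorem p_mul_p' : (ι p) * ι p = 0 := by rw [← map_mul, p_mul_p, map_zero]

theorem ann_of_flat (h : ι.Flat) {b : B} (hb : ι p * b = 0) : ∃ b', b = ι p * b' := by
  letI := ι.toAlgebra
  haveI : Module.Flat (W2 p k) B := h
  obtain ⟨m, a, y, hxy, hfa⟩ := Module.Flat.isTrivialRelation_of_sum_smul_eq_zero
    (R := W2 p k) (f := fun _ : Fin 1 => (p : W2 p k)) (x := fun _ => b) (by
      rw [Fin.sum_univ_one]
      exact (Algebra.smul_def (p : W2 p k) b).trans hb)
  have hdiv : ∀ j, ∃ a', a 0 j = (p : W2 p k) * a' := fun j => by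
    have := hfa j
    simp only [Fin.sum_univ_one] at this
    exact Ideal.mem_span_singleton.1 (eq_mul_of_p_mul p k this)
  choose a' ha' using hdiv
  refine ⟨∑ j, a' j • y j, ?_⟩
  rw [Finset.mul_sum]
  refine (hxy 0).trans (Finset.sum_congr rfl fun j _ => ?_)
  rw [ha', mul_smul]
  exact Algebra.smul_def _ _

theorem flat_of_ann (h : ∀ b : B, ι p * b = 0 → ∃ b', b = ι p * b') : ι.Flat := by
  letI := ι.toAlgebra
  show Module.Flat (W2 p k) B
  rw [Module.Flat.iff_rTensor_injective']
  intro I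
  rw [injective_iff_map_eq_zero]
  intro w hw
  by_cases hI : ∃ x ∈ I, res p k x ≠ 0
  · obtain ⟨x, hx, hx0⟩ := hI
    have hs : Function.Bijective I.subtype := by
      refine ⟨Subtype.val_injective, fun y => ⟨⟨y, ?_⟩, rfl⟩⟩
      rw [Ideal.eq_top_of_isUnit_mem I hx (isUnit_of_res_ne_zero p k hx0)]
      trivial
    exact ((LinearEquiv.ofBijective _ hs).rTensor B).injective (hw.trans (map_zero _).symm)
  push Not at hI
  by_cases hp : (p : W2 p k) ∈ I
  · have hw' : ∃ b : B, w = (⟨(p : W2 p k), hp⟩ : I) ⊗ₜ b := by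
      clear hw
      induction w with
      | zero => exact ⟨0, (TensorProduct.tmul_zero _ _).symm⟩
      | tmul x b =>
        obtain ⟨c, hc⟩ := Ideal.mem_span_singleton.1 (show x.1 ∈ Ideal.span {(p : W2 p k)} from
          ker_res p k ▸ hI x.1 x.2)
        refine ⟨c • b, ?_⟩
        rw [← TensorProduct.smul_tmul]
        congr 1
        exact Subtype.ext (hc.trans (mul_comm _ _))
      | add x y hx hy =>
        obtain ⟨a, rfl⟩ := hx
        obtain ⟨b, rfl⟩ := hy
        exact ⟨a + b, (TensorProduct.tmul_add _ _ _).symm⟩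
    obtain ⟨b, rfl⟩ := hw'
    replace hw := congrArg (TensorProduct.lid (W2 p k) B) hw
    rw [LinearMap.rTensor_tmul, TensorProduct.lid_tmul, map_zero] at hw
    obtain ⟨b', rfl⟩ := h b hw
    rw [show ι p * b' = (p : W2 p k) • b' from rfl, ← TensorProduct.smul_tmul,
      show (p : W2 p k) • (⟨(p : W2 p k), hp⟩ : I) = 0 from Subtype.ext (p_mul_p p k),
      TensorProduct.zero_tmul]
  · have hbot : I = ⊥ := by
      rw [eq_bot_iff]
      intro x hx
      obtain ⟨c, hc⟩ := Ideal.mem_span_singleton.1 (show x ∈ Ideal.span {(p : W2 p k)} from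
        ker_res p k ▸ hI x hx)
      rw [Submodule.mem_bot]
      by_cases hc0 : res p k c = 0
      · obtain ⟨d, hd⟩ := Ideal.mem_span_singleton.1 (show c ∈ Ideal.span {(p : W2 p k)} from
          ker_res p k ▸ hc0)
        rw [hc, hd, ← mul_assoc, p_mul_p, zero_mul]
      · obtain ⟨u, rfl⟩ := isUnit_of_res_ne_zero p k hc0
        refine absurd ?_ hp
        have := I.mul_mem_right ((u⁻¹ : (W2 p k)ˣ) : W2 p k) hx
        rwa [hc, mul_assoc, Units.mul_inv, mul_one] at this
    subst hbot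
    exact Subsingleton.elim _ _

variable {A : Type u} [CommRing A] [Algebra k A] {π : B →+* A}

theorem IsLift.mem_ker (h : IsLift p k A B ι π) {b : B} (hb : π b = 0) : ∃ b', b = ι p * b' := by
  have : b ∈ Ideal.map ι (RingHom.ker (res p k)) := h.ker_eq ▸ hb
  rw [ker_res, Ideal.map_span, Set.image_singleton] at this
  exact Ideal.mem_span_singleton.1 this

theorem IsLift.pi_p (h : IsLift p k A B ι π) : π (ι p) = 0 := by
  rw [← RingHom.comp_apply, h.comm, RingHom.comp_apply, res_p, map_zero]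

/-- The embedding `A → B`, `a ↦ p b` for `b` over `a`, of the kernel of a lifting. -/
noncomputable def pMul (h : IsLift p k A B ι π) (a : A) : B := ι p * Function.surjInv h.surj a

theorem pMul_eq (h : IsLift p k A B ι π) (b : B) : pMul p ι h (π b) = ι p * b := by
  have h1 : π (Function.surjInv h.surj (π b) - b) = 0 := by
    rw [map_sub, Function.surjInv_eq h.surj, sub_self]
  obtain ⟨c, hc⟩ := IsLift.mem_ker p ι h h1
  rw [pMul, ← sub_eq_zero, ← mul_sub, hc, ← mul_assoc, p_mul_p', zero_mul]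

theorem pMul_injective (h : IsLift p k A B ι π) : Function.Injective (pMul p ι h) := by
  intro a a' e
  obtain ⟨b, rfl⟩ := h.surj a
  obtain ⟨b', rfl⟩ := h.surj a'
  rw [pMul_eq, pMul_eq, ← sub_eq_zero, ← mul_sub] at e
  obtain ⟨c, hc⟩ := ann_of_flat p ι h.flat e
  rw [← sub_eq_zero, ← map_sub, hc, map_mul, IsLift.pi_p p ι h, zero_mul]

theorem mem_range_pMul (h : IsLift p k A B ι π) {b : B} (hb : π b = 0) : ∃ a, pMul p ι h a = b := by
  obtain ⟨c, rfl⟩ := IsLift.mem_ker p ι h hb
  exact ⟨π c, pMul_eq p ι h c⟩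

theorem pMul_add (h : IsLift p k A B ι π) (a a' : A) :
    pMul p ι h (a + a') = pMul p ι h a + pMul p ι h a' := by
  obtain ⟨b, rfl⟩ := h.surj a
  obtain ⟨b', rfl⟩ := h.surj a'
  rw [← map_add, pMul_eq, pMul_eq, pMul_eq, mul_add]

theorem mul_pMul (h : IsLift p k A B ι π) (x : B) (a : A) :
    x * pMul p ι h a = pMul p ι h (π x * a) := by
  obtain ⟨b, rfl⟩ := h.surj a
  rw [← map_mul, pMul_eq, pMul_eq]
  ring

theorem pi_pMul (h : IsLift p k A B ι π) (a : A) : π (pMul p ι h a) = 0 := by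
  rw [pMul, map_mul, IsLift.pi_p p ι h, zero_mul]

variable (A)

/-- A presentation of `A` with a functional on the relations which takes `p` to `1` gives a lifting. -/
theorem isW2Liftable_of_theta {P : Type u} [CommRing P] (ι : W2 p k →+* P) (ev : P →+* A)
    (hev : Function.Surjective ev) (hcomm : ev.comp ι = (algebraMap k A).comp (res p k))
    (θ : RingHom.ker ev → A) (hadd : ∀ g g', θ (g + g') = θ g + θ g')
    (hmul : ∀ (h : P) g, θ (h • g) = ev h * θ g)
    (hone : θ ⟨ι p, by rw [RingHom.mem_ker, ← RingHom.comp_apply, hcomm, RingHom.comp_apply, res_p, map_zero]⟩ = 1) :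
    IsW2Liftable p k A := by
  have hp : ι p ∈ RingHom.ker ev := by
    rw [RingHom.mem_ker, ← RingHom.comp_apply, hcomm, RingHom.comp_apply, res_p, map_zero]
  have hzero : θ 0 = 0 := by simpa using (hadd 0 0)
  let I : Ideal P :=
    { carrier := {g | ∃ hg : g ∈ RingHom.ker ev, θ ⟨g, hg⟩ = 0}
      zero_mem' := ⟨zero_mem _, hzero⟩
      add_mem' := by
        rintro a b ⟨ha, ha0⟩ ⟨hb, hb0⟩
        exact ⟨add_mem ha hb, by
          rw [show (⟨a + b, add_mem ha hb⟩ : RingHom.ker ev) = ⟨a, ha⟩ + ⟨b, hb⟩ from rfl, hadd,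
            ha0, hb0, add_zero]⟩
      smul_mem' := by
        rintro c a ⟨ha, ha0⟩
        exact ⟨(RingHom.ker ev).smul_mem c ha, by
          rw [show (⟨c • a, (RingHom.ker ev).smul_mem c ha⟩ : RingHom.ker ev) = c • ⟨a, ha⟩ from rfl,
            hmul, ha0, mul_zero]⟩ }
  have hIle : I ≤ RingHom.ker ev := fun g hg => hg.1
  let π : P ⧸ I →+* A := Ideal.Quotient.lift I ev fun a ha => hIle ha
  have hθp : ∀ (hh : P) (hh' : ι p * hh ∈ RingHom.ker ev), θ ⟨ι p * hh, hh'⟩ = ev hh := by
    intro hh hh'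
    rw [show (⟨ι p * hh, hh'⟩ : RingHom.ker ev) = hh • ⟨ι p, hp⟩ from
      Subtype.ext (mul_comm _ _), hmul, hone, mul_one]
  refine ⟨P ⧸ I, inferInstance, (Ideal.Quotient.mk I).comp ι, π,
    ⟨flat_of_ann p _ ?_, ?_, ?_, ?_⟩⟩
  · intro b hb
    obtain ⟨g, rfl⟩ := Ideal.Quotient.mk_surjective b
    rw [RingHom.comp_apply, ← map_mul, Ideal.Quotient.eq_zero_iff_mem] at hb
    obtain ⟨hg, hg0⟩ := hb
    have hevg : ev g = 0 := (hθp g hg).symm.trans hg0
    obtain ⟨z, hz⟩ := hev (θ ⟨g, hevg⟩)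
    refine ⟨Ideal.Quotient.mk I z, ?_⟩
    rw [RingHom.comp_apply, ← map_mul, Ideal.Quotient.eq]
    have hm : -(ι p * z) ∈ RingHom.ker ev := neg_mem (Ideal.mul_mem_right _ _ hp)
    refine ⟨by rw [sub_eq_add_neg]; exact add_mem hevg hm, ?_⟩
    have : (⟨g - ι p * z, by rw [sub_eq_add_neg]; exact add_mem hevg hm⟩ : RingHom.ker ev) =
        ⟨g, hevg⟩ + ⟨ι p * -z, Ideal.mul_mem_right _ _ hp⟩ := Subtype.ext (by simp; ring)
    rw [this, hadd, hθp, map_neg, hz, add_neg_cancel]
  · intro a
    obtain ⟨g, rfl⟩ := hev a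
    exact ⟨Ideal.Quotient.mk I g, rfl⟩
  · rw [ker_res, Ideal.map_span, Set.image_singleton]
    apply le_antisymm
    · intro b hb
      obtain ⟨g, rfl⟩ := Ideal.Quotient.mk_surjective b
      replace hb : ev g = 0 := hb
      obtain ⟨z, hz⟩ := hev (θ ⟨g, hb⟩)
      rw [Ideal.mem_span_singleton]
      refine ⟨Ideal.Quotient.mk I z, ?_⟩
      rw [RingHom.comp_apply, ← map_mul, Ideal.Quotient.eq]
      have hm : ι p * -z ∈ RingHom.ker ev := Ideal.mul_mem_right _ _ hp
      refine ⟨by simpa [sub_eq_add_neg] using add_mem (s := RingHom.ker ev) hb hm, ?_⟩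
      rw [show (⟨g - ι p * z, _⟩ : RingHom.ker ev) = ⟨g, hb⟩ + ⟨ι p * -z, hm⟩ from
        Subtype.ext (by simp; ring), hadd, hθp, map_neg, hz, add_neg_cancel]
    · rw [Ideal.span_le, Set.singleton_subset_iff]
      exact hp
  · exact RingHom.ext fun x => congr($hcomm x)

end Groth.Agent.W2Lift
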