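import Groth.Agent.S13136
import Groth.Agent.W2Lift.Basic
import Mathlib

/-! Lifts of regular sequences to `W₂(k)[x]`. -/

universe u
set_option autoImplicit false
set_option linter.style.haveILetI false

noncomputable section

namespace Groth.Agent.W2Lift.CILift

variable (p : ℕ) [Fact p.Prime] {k : Type u} [Field k] [CharP k p] [PerfectRing k p] {n : ℕ}

local notation "R'" => MvPolynomial (Fin n) (FrobAlg.W2 p k)
local notation "π" => MvPolynomial.map (σ := Fin n) (FrobAlg.res p k)

theorem ppR : ((p : R') * p) = 0 := by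
  have h0 := congrArg (algebraMap (FrobAlg.W2 p k) R') (Groth.Agent.W2Lift.p_mul_p p k)
  simpa using h0

theorem ker_π : RingHom.ker π = Ideal.span {(p : R')} := by
  rw [MvPolynomial.ker_map, Groth.Agent.W2Lift.ker_res, Ideal.map_span, Set.image_singleton, map_natCast]

theorem dvd_of_π {a b : R'} (h : π a = π b) : (p : R') ∣ a - b := by
  rw [← Ideal.mem_span_singleton, ← ker_π, RingHom.mem_ker, map_sub, h, sub_self]

theorem π_surjective : Function.Surjective π :=
  MvPolynomial.map_surjective _ (Groth.Agent.W2Lift.res_surjective p k)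

theorem π_p : π (p : R') = 0 := by
  rw [map_natCast, CharP.cast_eq_zero]

/-- `p x ∈ J` implies `x ∈ J + pR'` -/
def Good (J : Ideal (MvPolynomial (Fin n) (FrobAlg.W2 p k))) : Prop :=
  ∀ x : MvPolynomial (Fin n) (FrobAlg.W2 p k),
    (p : MvPolynomial (Fin n) (FrobAlg.W2 p k)) * x ∈ J → MvPolynomial.map (FrobAlg.res p k) x ∈ J.map (MvPolynomial.map (FrobAlg.res p k))

theorem good_bot : Good p (⊥ : Ideal R') := by
  intro x hx
  haveI : Module.Flat (FrobAlg.W2 p k) R' := inferInstance
  obtain ⟨y, hy⟩ := (Groth.Agent.S13136.result p k R').mp inferInstance x (by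
    rw [Algebra.smul_def, map_natCast]; exact hx)
  rw [Algebra.smul_def, map_natCast] at hy
  rw [hy, map_mul, π_p, zero_mul]
  exact zero_mem _

theorem good_step (J : Ideal R') (hJ : Good p J) (f : R')
    (hreg : ∀ z, π f * z ∈ J.map π → z ∈ J.map π) : Good p (J ⊔ Ideal.span {f}) := by
  intro x hx
  obtain ⟨j, hj, w, hw, hjw⟩ := Submodule.mem_sup.mp hx
  obtain ⟨y, rfl⟩ := Ideal.mem_span_singleton.mp hw
  have h1 : π y ∈ J.map π := by
    refine hreg _ ?_
    have h := congrArg π hjw
    rw [map_add, map_mul, map_mul, π_p, zero_mul] at h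
    rw [eq_neg_of_add_eq_zero_right h]
    exact neg_mem (Ideal.mem_map_of_mem _ hj)
  obtain ⟨j', hj', hj'y⟩ := (Ideal.mem_map_iff_of_surjective π (π_surjective p)).mp h1
  obtain ⟨z, hz⟩ := dvd_of_π p hj'y.symm
  have h2 : π (x - f * z) ∈ J.map π := hJ _ (by
    have : (p : R') * (x - f * z) = j + f * j' := by linear_combination (-1 : R') * hjw + f * hz
    rw [this]
    exact J.add_mem hj (J.mul_mem_left _ hj'))
  have h3 : π x = π (x - f * z) + π f * π z := by rw [map_sub, map_mul, sub_add_cancel]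
  rw [h3, Ideal.map_sup]
  refine Ideal.add_mem _ (Ideal.mem_sup_left h2) (Ideal.mem_sup_right ?_)
  exact Ideal.mul_mem_right _ _ (Ideal.mem_map_of_mem _ (Ideal.mem_span_singleton_self f))

theorem good_of_isWeaklyRegular {m : ℕ} (f' : Fin m → R')
    (hreg : RingTheory.Sequence.IsWeaklyRegular (MvPolynomial (Fin n) k) (List.ofFn fun i => π (f' i))) :
    Good p (Ideal.span (Set.range f')) := by
  classical
  have key : ∀ i, i ≤ m → Good p (Ideal.span (f' '' {j | (j : ℕ) < i})) := by
    intro i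
    induction i with
    | zero =>
      intro _
      have h0 : {j : Fin m | (j : ℕ) < 0} = ∅ := by ext; simp
      rw [h0, Set.image_empty, Ideal.span_empty]
      exact good_bot p
    | succ i ih =>
      intro hi
      have hset : {j : Fin m | (j : ℕ) < i + 1} = insert ⟨i, hi⟩ {j : Fin m | (j : ℕ) < i} := by
        ext j; simp [Fin.ext_iff]; omega
      rw [hset, Set.image_insert_eq, Ideal.span_insert, sup_comm]
      refine good_step p _ (ih (by omega)) _ fun z hz => ?_
      have hmap : (Ideal.span (f' '' {j : Fin m | (j : ℕ) < i})).map π =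
          Ideal.ofList ((List.ofFn fun j => π (f' j)).take i) := by
        rw [Ideal.map_span, Ideal.ofList, Set.image_image]
        refine congrArg Ideal.span (Set.ext fun a => ?_)
        simp only [Set.mem_image, Set.mem_setOf_eq, List.mem_take_iff_getElem, List.getElem_ofFn, List.length_ofFn]
        constructor
        · rintro ⟨j, hj, rfl⟩; exact ⟨j, by omega, rfl⟩
        · rintro ⟨j, hj, rfl⟩; exact ⟨⟨j, by omega⟩, by simp at hj ⊢; omega, rfl⟩
      have hr := hreg.regular_mod_prev i (by simpa using hi)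
      have hmem : ∀ a, a ∈ (Ideal.span (f' '' {j : Fin m | (j : ℕ) < i})).map π ↔
          a ∈ (Ideal.ofList ((List.ofFn fun j => π (f' j)).take i) • ⊤ : Submodule (MvPolynomial (Fin n) k) (MvPolynomial (Fin n) k)) := by
        intro a; rw [hmap, smul_eq_mul, Ideal.mul_top]
      rw [hmem] at hz ⊢
      rw [← Submodule.Quotient.mk_eq_zero] at hz ⊢
      refine hr.right_eq_zero_of_smul ?_
      rw [List.getElem_ofFn, ← Submodule.Quotient.mk_smul, smul_eq_mul]
      exact hz
  have := key m le_rfl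
  rwa [show {j : Fin m | (j : ℕ) < m} = Set.univ from Set.eq_univ_of_forall fun j => j.2, Set.image_univ] at this

theorem flat_of_good (J : Ideal R') (hJ : Good p J) : Module.Flat (FrobAlg.W2 p k) (R' ⧸ J) := by
  rw [Groth.Agent.S13136.result]
  intro a ha
  obtain ⟨x, rfl⟩ := Ideal.Quotient.mk_surjective a
  replace ha : Ideal.Quotient.mk J ((p : FrobAlg.W2 p k) • x) = 0 := ha
  rw [Algebra.smul_def, map_natCast, Ideal.Quotient.eq_zero_iff_mem] at ha
  obtain ⟨j, hj, hjx⟩ := (Ideal.mem_map_iff_of_surjective π (π_surjective p)).mp (hJ x ha)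
  obtain ⟨y, hy⟩ := dvd_of_π p hjx.symm
  refine ⟨Ideal.Quotient.mk J y, ?_⟩
  show Ideal.Quotient.mk J x = Ideal.Quotient.mk J ((p : FrobAlg.W2 p k) • y)
  rw [Algebra.smul_def, map_natCast, Ideal.Quotient.eq, ← hy, sub_sub_cancel]
  exact hj

theorem exists_presentation {A B : Type u} [CommRing A] [Algebra k A] [CommRing B] {ι : FrobAlg.W2 p k →+* B}
    {ρ : B →+* A} (hB : FrobAlg.IsLift p k A B ι ρ) {m : ℕ} (f : Fin m → MvPolynomial (Fin n) k)
    (q : MvPolynomial (Fin n) k →ₐ[k] A) (hq : Function.Surjective q)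
    (hker : RingHom.ker q = Ideal.span (Set.range f)) :
    ∃ (φ : R' →+* B) (f' : Fin m → R'), φ.comp MvPolynomial.C = ι ∧ (∀ a, ρ (φ a) = q (π a)) ∧
      (∀ i, π (f' i) = f i) ∧ Function.Surjective φ ∧ RingHom.ker φ = Ideal.span (Set.range f') := by
  classical
  choose b hb using fun j => hB.surj (q (MvPolynomial.X j))
  let φ : R' →+* B := MvPolynomial.eval₂Hom ι b
  have hφC : φ.comp MvPolynomial.C = ι := RingHom.ext fun c => MvPolynomial.eval₂_C _ _ _
  have hρ : ∀ a, ρ (φ a) = q (π a) := fun a => by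
    refine RingHom.congr_fun (show ρ.comp φ = q.toRingHom.comp π from
      MvPolynomial.ringHom_ext (fun c => ?_) fun j => ?_) a
    · have := RingHom.congr_fun hB.comm c
      simp only [RingHom.comp_apply, φ, MvPolynomial.eval₂Hom_C, MvPolynomial.map_C] at this ⊢
      rw [this]
      exact (q.commutes _).symm
    · simp only [RingHom.comp_apply, φ, MvPolynomial.eval₂Hom_X', MvPolynomial.map_X, hb]
      rfl
  have hφp : φ (p : R') = ι (p : FrobAlg.W2 p k) := by rw [map_natCast, map_natCast]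
  have hpp : ι (p : FrobAlg.W2 p k) * ι (p : FrobAlg.W2 p k) = 0 := by
    rw [← map_mul, Groth.Agent.W2Lift.p_mul_p, map_zero]
  have hdiv : ∀ x : B, ∃ a y, x = φ a + ι (p : FrobAlg.W2 p k) * y := fun x => by
    obtain ⟨a, ha⟩ := hq (ρ x)
    obtain ⟨a', rfl⟩ := π_surjective p a
    obtain ⟨y, hy⟩ := Groth.Agent.W2Lift.IsLift.mem_ker p ι hB (b := x - φ a') (by rw [map_sub, hρ, ha, sub_self])
    exact ⟨a', y, by rw [← hy, add_sub_cancel]⟩
  have hsurj : Function.Surjective φ := fun x => by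
    obtain ⟨a, y, rfl⟩ := hdiv x
    obtain ⟨a', y', rfl⟩ := hdiv y
    refine ⟨a + (p : R') * a', ?_⟩
    rw [map_add, map_mul, hφp, mul_add, ← mul_assoc _ _ y', hpp, zero_mul, add_zero]
  have hf : ∀ i, ∃ g : R', π g = f i ∧ φ g = 0 := fun i => by
    obtain ⟨g, hg⟩ := π_surjective p (f i)
    obtain ⟨y, hy⟩ := Groth.Agent.W2Lift.IsLift.mem_ker p ι hB (b := φ g) (by
      rw [hρ, hg, ← RingHom.mem_ker (f := q), hker]; exact Ideal.subset_span ⟨i, rfl⟩)
    obtain ⟨r, rfl⟩ := hsurj y
    refine ⟨g - (p : R') * r, ?_, ?_⟩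
    · rw [map_sub, map_mul, π_p, zero_mul, sub_zero, hg]
    · rw [map_sub, map_mul, hφp, hy, sub_self]
  choose f' hf1 hf2 using hf
  refine ⟨φ, f', hφC, hρ, hf1, hsurj, le_antisymm (fun x hx => ?_) (Ideal.span_le.mpr ?_)⟩
  · have hmap : (Ideal.span (Set.range f')).map π = Ideal.span (Set.range f) := by
      rw [Ideal.map_span, ← Set.range_comp]; exact congrArg _ (congrArg _ (funext hf1))
    have hin : ∀ a, ρ (φ a) = 0 → ∃ j ∈ Ideal.span (Set.range f'), ∃ r, a = j + (p : R') * r := by
      intro a ha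
      have h : π a ∈ (Ideal.span (Set.range f')).map π := by rw [hmap, ← hker]; exact (hρ a).symm.trans ha
      obtain ⟨j, hj, hja⟩ := (Ideal.mem_map_iff_of_surjective π (π_surjective p)).mp h
      obtain ⟨r, hr⟩ := dvd_of_π p hja.symm
      exact ⟨j, hj, r, by rw [← hr, add_sub_cancel]⟩
    obtain ⟨j, hj, r, rfl⟩ := hin x (by rw [show φ x = 0 from hx, map_zero])
    have hj0 : φ j = 0 := (Ideal.span_le (I := RingHom.ker φ)).mpr
      (by rintro _ ⟨i, rfl⟩; exact hf2 i) hj
    have hr0 : ι (p : FrobAlg.W2 p k) * φ r = 0 := by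
      have := hx
      rwa [RingHom.mem_ker, map_add, hj0, zero_add, map_mul, hφp] at this
    obtain ⟨y, hy⟩ := Groth.Agent.W2Lift.ann_of_flat p ι hB.flat hr0
    obtain ⟨j2, hj2, r2, rfl⟩ := hin r (by
      rw [hy, map_mul, Groth.Agent.W2Lift.IsLift.pi_p p ι hB, zero_mul])
    have : j + (p : R') * (j2 + (p : R') * r2) = j + (p : R') * j2 := by
      linear_combination r2 * (ppR p : (p : R') * p = 0)
    rw [this]
    exact Ideal.add_mem _ hj (Ideal.mul_mem_left _ _ hj2)
  · rintro _ ⟨i, rfl⟩; exact hf2 i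

end Groth.Agent.W2Lift.CILift
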