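import Groth.Agent.W2Lift.Basic

/-!
# Descending liftings and Frobenius liftings
-/

set_option autoImplicit false

universe u

open FrobAlg TensorProduct

namespace Groth.Agent.W2Lift

variable (p : ℕ) [Fact p.Prime] (k : Type u) [Field k] [CharP k p] [PerfectRing k p]
  (A B : Type u) [CommRing A] [CommRing B] [Algebra k A] [Algebra k B] [Algebra A B]
  [IsScalarTower k A B]

omit [CharP k p] [PerfectRing k p] in
theorem eval_X_comm :
    ((MvPolynomial.eval₂Hom ((algebraMap k A).comp (res p k)) id).comp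
      (MvPolynomial.C : W2 p k →+* MvPolynomial A (W2 p k))) = (algebraMap k A).comp (res p k) := by
  ext x; simp

/-- The values on relations of a presentation of `A` mapping to a lifting of `B`. -/
theorem exists_thetaB {B' : Type u} [CommRing B'] {ι : W2 p k →+* B'} {π : B' →+* B}
    (h : IsLift p k B B' ι π) {P : Type u} [CommRing P] (ιP : W2 p k →+* P) (ev : P →+* A)
    (evB : P →+* B') (hι : evB.comp ιP = ι) (hπ : π.comp evB = (algebraMap A B).comp ev) :
    ∃ e : RingHom.ker ev → B, (∀ g g', e (g + g') = e g + e g') ∧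
      (∀ (c : P) g, e (c • g) = algebraMap A B (ev c) * e g) ∧
      ∀ g : RingHom.ker ev, g.1 = ιP p → e g = 1 := by
  have h0 : ∀ g : RingHom.ker ev, ∃ a, pMul p ι h a = evB g.1 := fun g =>
    mem_range_pMul p ι h (by
      rw [← RingHom.comp_apply, hπ, RingHom.comp_apply, RingHom.mem_ker.1 g.2, map_zero])
  choose e he using h0
  refine ⟨e, fun g g' => ?_, fun c g => ?_, fun g hg => ?_⟩
  · apply pMul_injective p ι h
    rw [pMul_add, he, he, he]
    exact map_add evB _ _
  · apply pMul_injective p ι h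
    rw [he, ← RingHom.comp_apply, ← hπ, RingHom.comp_apply, ← mul_pMul p ι h, he]
    exact map_mul evB _ _
  · apply pMul_injective p ι h
    rw [he, hg, ← RingHom.comp_apply, hι, ← map_one π, pMul_eq, mul_one]

theorem isW2Liftable_of_retraction (r : B →ₗ[A] A) (hr : ∀ a : A, r (algebraMap A B a) = a)
    (hB : IsW2Liftable p k B) : IsW2Liftable p k A := by
  obtain ⟨B', _, ι, π, h⟩ := hB
  let ev : MvPolynomial A (W2 p k) →+* A :=
    MvPolynomial.eval₂Hom ((algebraMap k A).comp (res p k)) id
  let evB : MvPolynomial A (W2 p k) →+* B' :=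
    MvPolynomial.eval₂Hom ι fun a => Function.surjInv h.surj (algebraMap A B a)
  have hπ : π.comp evB = (algebraMap A B).comp ev := by
    apply MvPolynomial.ringHom_ext
    · intro x
      simp only [RingHom.comp_apply, ev, evB, MvPolynomial.eval₂Hom_C]
      rw [← RingHom.comp_apply, h.comm, RingHom.comp_apply, ← IsScalarTower.algebraMap_apply]
    · intro a
      simp [ev, evB, Function.surjInv_eq h.surj]
  obtain ⟨e, e1, e2, e3⟩ := exists_thetaB p k A B h MvPolynomial.C ev evB (by ext x; simp [evB]) hπ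
  refine isW2Liftable_of_theta p A MvPolynomial.C ev
    (fun a => ⟨MvPolynomial.X a, by simp [ev]⟩) (eval_X_comm p k A) (fun g => r (e g))
    (fun g g' => by rw [e1, map_add]) (fun c g => ?_) ?_
  · rw [e2, ← Algebra.smul_def, map_smul, smul_eq_mul]
  · rw [e3 _ rfl, ← map_one (algebraMap A B), hr]

theorem exists_frobLift_of_retraction (r : B →ₗ[A] A) (hr : ∀ a : A, r (algebraMap A B a) = a)
    {A' B' : Type u} [CommRing A'] [CommRing B'] {ιA : W2 p k →+* A'} {πA : A' →+* A}
    (hA : IsLift p k A A' ιA πA) {ιB : W2 p k →+* B'} {πB : B' →+* B}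
    (hB : IsLift p k B B' ιB πB) (φ' : A' →+* B') (hφι : φ'.comp ιA = ιB)
    (hφπ : πB.comp φ' = (algebraMap A B).comp πA) (ΦB : B' →+* B')
    (hΦB : IsFrobLift p k B B' ιB πB ΦB) :
    ∃ ΦA : A' →+* A', IsFrobLift p k A A' ιA πA ΦA := by
  have hφ : ∀ a, φ' (pMul p ιA hA a) = pMul p ιB hB (algebraMap A B a) := by
    intro a
    obtain ⟨b, rfl⟩ := hA.surj a
    rw [pMul_eq, map_mul, ← RingHom.comp_apply, hφι, ← RingHom.comp_apply (algebraMap A B), ← hφπ,
      RingHom.comp_apply, pMul_eq]
  have h0 : ∀ x : A', ∃ d : B, pMul p ιB hB d = ΦB (φ' x) - φ' (x ^ p) := fun x =>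
    mem_range_pMul p ιB hB (by
      rw [map_sub, hΦB.red, map_pow φ', map_pow πB, sub_self])
  choose d hd using h0
  let F : A' → A' := fun x => x ^ p + pMul p ιA hA (r (d x))
  have key : ∀ (x z : A') (a : A) (b : B), z = x ^ p + pMul p ιA hA a →
      ΦB (φ' x) = φ' z + pMul p ιB hB b → F x = z + pMul p ιA hA (r b) := by
    intro x z a b hz hb
    have : d x = algebraMap A B a + b := by
      apply pMul_injective p ιB hB
      rw [hd, hb, hz, map_add, hφ, pMul_add]
      ring
    show x ^ p + pMul p ιA hA (r (d x)) = _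
    rw [this, map_add, hr, pMul_add, hz]
    ring
  have hF : ∀ x, ΦB (φ' x) = φ' (x ^ p) + pMul p ιB hB (d x) := fun x => by rw [hd]; ring
  have hsur : ∀ z w : A', πA z = πA w → ∃ a, z = w + pMul p ιA hA a := fun z w e => by
    obtain ⟨a, ha⟩ := mem_range_pMul p ιA hA (b := z - w) (by rw [map_sub, e, sub_self])
    exact ⟨a, by rw [ha]; ring⟩
  have hπF : ∀ x, πA (F x) = πA x ^ p := fun x => by
    simp only [F, map_add, map_pow, pi_pMul, add_zero]
  have pMul_zero : ∀ {C A'' : Type u} [CommRing C] [CommRing A''] [Algebra k A''] {ι : W2 p k →+* C}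
      {π : C →+* A''} (h : IsLift p k A'' C ι π), pMul p ι h 0 = 0 := fun {C A''} _ _ _ {ι π} h => by
    have := pMul_add p ι h 0 0
    rw [add_zero] at this
    exact left_eq_add.1 this
  have char : ∀ (x z : A') (b : B), πA z = πA x ^ p →
      ΦB (φ' x) = φ' z + pMul p ιB hB b → r b = 0 → F x = z := by
    intro x z b hz hb hrb
    obtain ⟨a, ha⟩ := hsur z (x ^ p) (by rw [hz, map_pow])
    rw [key x z a b ha hb, hrb, pMul_zero hA, add_zero]
  have hβ : ∀ x, ∃ b, r b = 0 ∧ ΦB (φ' x) = φ' (F x) + pMul p ιB hB b := fun x =>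
    ⟨d x - algebraMap A B (r (d x)), by rw [map_sub, hr, sub_self], by
      rw [hF]
      simp only [F, map_add, hφ]
      rw [add_assoc, ← pMul_add, add_sub_cancel]⟩
  refine ⟨{ toFun := F, map_one' := char 1 1 0 (by simp) (by simp [pMul_zero hB]) (map_zero r),
            map_mul' := fun x y => ?_,
            map_zero' := char 0 0 0 (by simp [(Fact.out : p.Prime).ne_zero]) (by simp [pMul_zero hB])
              (map_zero r),
            map_add' := fun x y => ?_ }, ⟨hA, ?_, hπF⟩⟩
  · obtain ⟨bx, hbx, hx⟩ := hβ x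
    obtain ⟨b', hby, hy⟩ := hβ y
    refine char _ _ (algebraMap A B (πA (F x)) * b' + algebraMap A B (πA (F y)) * bx) ?_ ?_ ?_
    · rw [map_mul, map_mul, hπF, hπF, mul_pow]
    · have hp' : ∀ z, πB (φ' z) = algebraMap A B (πA z) := fun z => congr($hφπ z)
      rw [map_mul φ', map_mul ΦB, hx, hy, map_mul φ', add_mul, mul_add, mul_add, pMul_add,
        ← hp', ← hp', ← mul_pMul, ← mul_pMul, mul_pMul p ιB hB (pMul p ιB hB bx), pi_pMul, zero_mul,
        pMul_zero hB]
      ring
    · rw [map_add, ← Algebra.smul_def, ← Algebra.smul_def, map_smul, map_smul, hbx, hby]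
      simp
  · obtain ⟨bx, hbx, hx⟩ := hβ x
    obtain ⟨b', hby, hy⟩ := hβ y
    refine char _ _ (bx + b') ?_ ?_ ?_
    · obtain ⟨c, hc⟩ := exists_add_pow_prime_eq (R := A) (Fact.out : p.Prime) (πA x) (πA y)
      have hp0 : (p : A) = 0 := by
        rw [← map_natCast (algebraMap k A), CharP.cast_eq_zero, map_zero]
      rw [map_add πA (F x), hπF, hπF, map_add πA x, hc, hp0]
      ring
    · rw [map_add φ' x y, map_add ΦB, hx, hy, map_add φ' (F x) (F y), pMul_add]
      ring
    · rw [map_add, hbx, hby, add_zero]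
  · refine RingHom.ext fun c => char (ιA c) (ιA (sigma p k c)) 0 ?_ ?_ (map_zero r)
    · rw [← RingHom.comp_apply πA ιA (sigma p k c), ← RingHom.comp_apply πA ιA c, hA.comm,
        RingHom.comp_apply, RingHom.comp_apply, ← map_pow (algebraMap k A), res_apply, res_apply]
      rfl

    · rw [pMul_zero hB, add_zero, ← RingHom.comp_apply φ', ← RingHom.comp_apply φ', hφι,
        ← RingHom.comp_apply ΦB, hΦB.semi, RingHom.comp_apply]

end Groth.Agent.W2Lift
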