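import Groth.Agent.W2Lift.Descent

/-!
# Descending liftings along faithfully flat maps
-/

set_option autoImplicit false

universe u

open FrobAlg TensorProduct

namespace Groth.Agent.W2Lift

variable (p : ℕ) [Fact p.Prime] (k : Type u) [Field k] [CharP k p] [PerfectRing k p]

theorem isNoetherianRing_W2 : IsNoetherianRing (W2 p k) := by
  rw [isNoetherianRing_iff_ideal_fg]
  intro I
  by_cases hI : ∃ x ∈ I, res p k x ≠ 0
  · obtain ⟨x, hx, hx0⟩ := hI
    rw [Ideal.eq_top_of_isUnit_mem I hx (isUnit_of_res_ne_zero p k hx0)]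
    exact ⟨{1}, by simp⟩
  push Not at hI
  by_cases hp : (p : W2 p k) ∈ I
  · refine ⟨{(p : W2 p k)}, le_antisymm (by simpa [Ideal.span_le] using hp) ?_⟩
    intro x hx
    have : x ∈ Ideal.span {(p : W2 p k)} := ker_res p k ▸ hI x hx
    simpa using this
  · refine ⟨∅, ?_⟩
    rw [Finset.coe_empty, Ideal.span_empty, eq_comm, eq_bot_iff]
    intro x hx
    obtain ⟨c, hc⟩ := Ideal.mem_span_singleton.1 (show x ∈ Ideal.span {(p : W2 p k)} from
      ker_res p k ▸ hI x hx)
    rw [Submodule.mem_bot]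
    by_cases hc0 : res p k c = 0
    · obtain ⟨d, hd⟩ := Ideal.mem_span_singleton.1 (show c ∈ Ideal.span {(p : W2 p k)} from
        ker_res p k ▸ hc0)
      rw [hc, hd, ← mul_assoc, p_mul_p, zero_mul]
    · obtain ⟨u, rfl⟩ := isUnit_of_res_ne_zero p k hc0
      refine absurd ?_ hp
      have := I.mul_mem_right ((u⁻¹ : (W2 p k)ˣ) : W2 p k) hx
      rwa [hc, mul_assoc, Units.mul_inv, mul_one] at this

omit [Fact p.Prime] in
/-- A finite linear system over `A` soluble in a faithfully flat `A`-algebra is soluble in `A`. -/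
theorem exists_solution_of_faithfullyFlat {A B : Type u} [CommRing A] [CommRing B] [Algebra A B]
    [Module.FaithfullyFlat A B] {ι κ : Type} [Fintype ι] [DecidableEq ι] [Fintype κ] [DecidableEq κ]
    (M : κ → ι → A) (w : κ → A) (v : ι → B)
    (h : ∀ j, ∑ i, algebraMap A B (M j i) * v i = algebraMap A B (w j)) :
    ∃ x : ι → A, ∀ j, ∑ i, M j i * x i = w j := by
  let L : (ι → A) →ₗ[A] κ → A := (Matrix.of M).mulVecLin
  suffices hw : w ∈ LinearMap.range L by
    obtain ⟨x, hx⟩ := hw
    exact ⟨x, fun j => congrFun hx j⟩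
  have h1 : (1 : B) ⊗ₜ[A] w = L.baseChange B (∑ i, v i ⊗ₜ[A] Pi.single i (1 : A)) := by
    apply (TensorProduct.piScalarRight A A B κ).injective
    funext j
    simp only [map_sum, LinearMap.baseChange_tmul, TensorProduct.piScalarRight_apply,
      TensorProduct.piScalarRightHom_tmul, Finset.sum_apply]
    simp [L, Algebra.smul_def, ← h j, Matrix.mulVec_single]
  rw [← Submodule.Quotient.mk_eq_zero]
  have h2 : (1 : B) ⊗ₜ[A] (LinearMap.range L).mkQ w = 0 := by
    rw [← LinearMap.baseChange_tmul, h1, ← LinearMap.comp_apply, ← LinearMap.baseChange_comp,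
      LinearMap.range_mkQ_comp, LinearMap.baseChange_zero, LinearMap.zero_apply]
  exact (Module.FaithfullyFlat.tensorProduct_mk_injective (A := A) (B := B) _)
    (h2.trans (TensorProduct.tmul_zero _ _).symm)

theorem isW2Liftable_of_presentation {A B B' P : Type u} [CommRing A] [CommRing B] [CommRing B']
    [CommRing P] [IsNoetherianRing P] [Algebra k A] [Algebra A B] [Module.FaithfullyFlat A B]
    [Algebra k B] [IsScalarTower k A B] {ι : W2 p k →+* B'} {π : B' →+* B}
    (h : IsLift p k B B' ι π) (ιP : W2 p k →+* P) (ev : P →+* A) (evB : P →+* B')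
    (hev : Function.Surjective ev) (hcomm : ev.comp ιP = (algebraMap k A).comp (res p k))
    (hιB : evB.comp ιP = ι) (hπ : π.comp evB = (algebraMap A B).comp ev) :
    IsW2Liftable p k A := by
  obtain ⟨e, e1, e2, e3⟩ := exists_thetaB p k A B h ιP ev evB hιB hπ
  obtain ⟨m, g, hg⟩ := (Submodule.fg_iff_exists_fin_generating_family.1
    (IsNoetherian.noetherian (RingHom.ker ev)))
  have hgm : ∀ i, g i ∈ RingHom.ker ev := fun i => hg ▸ Submodule.subset_span ⟨i, rfl⟩
  let φ : (Fin m → P) →ₗ[P] P :=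
    Fintype.linearCombination (P) g
  have hφ : ∀ z ∈ RingHom.ker ev, ∃ c, φ c = z := by
    intro z hz
    rw [← hg, Submodule.mem_span_range_iff_exists_fun] at hz
    exact hz
  have hφmem : ∀ c, φ c ∈ RingHom.ker ev := fun c => by
    simp only [φ, Fintype.linearCombination_apply, smul_eq_mul]
    exact sum_mem fun i _ => Ideal.mul_mem_left _ _ (hgm i)
  obtain ⟨l, R, hR⟩ := Submodule.fg_iff_exists_fin_generating_family.1
    (IsNoetherian.noetherian (LinearMap.ker φ))
  have hp : ιP p ∈ RingHom.ker ev := by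
    rw [RingHom.mem_ker, ← RingHom.comp_apply, hcomm, RingHom.comp_apply, res_p, map_zero]
  obtain ⟨q, hq⟩ := hφ _ hp
  have heφ : ∀ c, ∑ i, algebraMap A B (ev (c i)) * e ⟨g i, hgm i⟩ = e ⟨φ c, hφmem c⟩ := by
    intro c
    let E : RingHom.ker ev →+ B := AddMonoidHom.mk' e e1
    calc _ = ∑ i, E (c i • ⟨g i, hgm i⟩) := Finset.sum_congr rfl fun i _ => (e2 _ _).symm
      _ = E (∑ i, c i • ⟨g i, hgm i⟩) := (map_sum E _ _).symm
      _ = e ⟨φ c, hφmem c⟩ := congrArg e (Subtype.ext (by
          simp [φ, Fintype.linearCombination_apply]))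
  obtain ⟨v, hv⟩ := exists_solution_of_faithfullyFlat (B := B)
    (fun (j : Fin l ⊕ Unit) i => ev (j.elim (fun a => R a i) fun _ => q i))
    (fun j => j.elim (fun _ => 0) fun _ => 1) (fun i => e ⟨g i, hgm i⟩) (by
      rintro (a | _)
      · simp only [Sum.elim_inl, map_zero]
        rw [heφ]
        have : φ (R a) = 0 := by
          have : R a ∈ LinearMap.ker φ := hR ▸ Submodule.subset_span ⟨a, rfl⟩
          exact this
        rw [show (⟨φ (R a), hφmem _⟩ : RingHom.ker ev) = 0 from Subtype.ext this]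
        simpa using e1 0 0
      · simp only [Sum.elim_inr, map_one]
        rw [heφ, e3 _ hq])
  let Θ : (Fin m → P) → A := fun c => ∑ i, ev (c i) * v i
  have hΘadd : ∀ c c', Θ (c + c') = Θ c + Θ c' := fun c c' => by
    simp only [Θ, Pi.add_apply, map_add, add_mul, Finset.sum_add_distrib]
  have hΘsmul : ∀ (a : P) c, Θ (a • c) = ev a * Θ c := fun a c => by
    simp only [Θ, Pi.smul_apply, smul_eq_mul, map_mul, mul_assoc, Finset.mul_sum]
  have hker : ∀ c, φ c = 0 → Θ c = 0 := by
    intro c hc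
    replace hc : c ∈ Submodule.span (P) (Set.range R) := hR ▸ hc
    induction hc using Submodule.span_induction with
    | mem x hx =>
      obtain ⟨a, rfl⟩ := hx
      exact hv (Sum.inl a)
    | zero => simp [Θ]
    | add x y _ _ hx hy => rw [hΘadd, hx, hy, add_zero]
    | smul a x _ hx => rw [hΘsmul, hx, mul_zero]
  choose cf hcf using fun z : RingHom.ker ev => hφ z.1 z.2
  have hwd : ∀ c (z : RingHom.ker ev), φ c = z.1 → Θ c = Θ (cf z) := by
    intro c z hc
    have := hker (c - cf z) (by rw [map_sub, hc, hcf, sub_self])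
    have h2 := hΘadd (c - cf z) (cf z)
    rwa [sub_add_cancel, this, zero_add] at h2
  refine isW2Liftable_of_theta p A ιP ev hev hcomm (fun z => Θ (cf z))
    (fun z z' => ?_) (fun a z => ?_) ?_
  · rw [← hΘadd]
    exact (hwd _ _ (by rw [map_add, hcf, hcf]; rfl)).symm
  · rw [← hΘsmul]
    exact (hwd _ _ (by rw [map_smul, hcf]; rfl)).symm
  · show Θ (cf ⟨ιP p, hp⟩) = 1
    rw [← hwd q ⟨ιP p, hp⟩ hq]
    exact hv (Sum.inr ())

theorem isW2Liftable_of_faithfullyFlat (A B : Type u) [CommRing A] [CommRing B] [Algebra k A]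
    [Algebra.EssFiniteType k A] [Algebra A B] [Module.FaithfullyFlat A B] [Algebra k B]
    [IsScalarTower k A B] (hB : IsW2Liftable p k B) : IsW2Liftable p k A := by
  obtain ⟨B', _, ι, π, h⟩ := hB
  obtain ⟨s, hs⟩ := Algebra.EssFiniteType.cond (R := k) (S := A)
  let ev0 : MvPolynomial s (W2 p k) →+* A :=
    MvPolynomial.eval₂Hom ((algebraMap k A).comp (res p k)) Subtype.val
  have hadj : ∀ x ∈ Algebra.adjoin k (s : Set A), ∃ g, ev0 g = x := by
    intro x hx
    induction hx using Algebra.adjoin_induction with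
    | mem y hy => exact ⟨MvPolynomial.X ⟨y, hy⟩, by simp [ev0]⟩
    | algebraMap c =>
      obtain ⟨c', rfl⟩ := res_surjective p k c
      exact ⟨MvPolynomial.C c', by simp [ev0]⟩
    | add y z _ _ hy hz =>
      obtain ⟨a, rfl⟩ := hy
      obtain ⟨b, rfl⟩ := hz
      exact ⟨a + b, map_add _ _ _⟩
    | mul y z _ _ hy hz =>
      obtain ⟨a, rfl⟩ := hy
      obtain ⟨b, rfl⟩ := hz
      exact ⟨a * b, map_mul _ _ _⟩
  obtain ⟨M, hM⟩ : ∃ M : Submonoid (MvPolynomial s (W2 p k)), ∀ g, g ∈ M ↔ IsUnit (ev0 g) :=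
    ⟨(IsUnit.submonoid A).comap ev0, fun g => Iff.rfl⟩
  obtain ⟨evB0, hπ0, hιB0⟩ : ∃ f : MvPolynomial s (W2 p k) →+* B',
      π.comp f = (algebraMap A B).comp ev0 ∧ ∀ x, f (MvPolynomial.C x) = ι x := by
    refine ⟨MvPolynomial.eval₂Hom ι fun a => Function.surjInv h.surj (algebraMap A B a.1), ?_,
      fun x => MvPolynomial.eval₂Hom_C _ _ x⟩
    apply MvPolynomial.ringHom_ext
    · intro x
      simp only [RingHom.comp_apply, ev0, MvPolynomial.eval₂Hom_C]
      rw [← RingHom.comp_apply, h.comm, RingHom.comp_apply, ← IsScalarTower.algebraMap_apply]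
    · intro a
      simp [ev0, Function.surjInv_eq h.surj]
  have hunit : ∀ y : M, IsUnit (evB0 y.1) := by
    intro y
    have : IsUnit (π (evB0 y.1)) := by
      rw [← RingHom.comp_apply, hπ0]
      exact IsUnit.map (algebraMap A B) ((hM _).1 y.2)
    obtain ⟨z, hz⟩ := this.exists_right_inv
    obtain ⟨w, rfl⟩ := h.surj z
    obtain ⟨c, hc⟩ := IsLift.mem_ker p ι h
      (b := evB0 y.1 * w - 1) (by rw [map_sub, map_mul, hz, map_one, sub_self])
    refine isUnit_of_mul_isUnit_left (y := w) ?_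
    rw [← sub_add_cancel (evB0 y.1 * w) 1, hc]
    exact IsNilpotent.isUnit_add_one ⟨2, by rw [mul_pow, pow_two (ι (p : W2 p k)), p_mul_p', zero_mul]⟩
  obtain ⟨ev, hev0⟩ : ∃ ev : Localization M →+* A, ∀ g, ev (algebraMap _ _ g) = ev0 g :=
    ⟨IsLocalization.lift (M := M) (g := ev0) fun y => (hM _).1 y.2, IsLocalization.lift_eq _⟩
  obtain ⟨evB, hevB⟩ : ∃ f : Localization M →+* B', ∀ g, f (algebraMap _ _ g) = evB0 g :=
    ⟨IsLocalization.lift hunit, IsLocalization.lift_eq _⟩
  have hC : ∀ x, ev0 (MvPolynomial.C x) = algebraMap k A (res p k x) := fun x =>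
    MvPolynomial.eval₂Hom_C _ _ x
  haveI := isNoetherianRing_W2 p k
  haveI : IsNoetherianRing (Localization M) := IsLocalization.isNoetherianRing M _ inferInstance
  refine isW2Liftable_of_presentation p k h
    ((algebraMap (MvPolynomial s (W2 p k)) (Localization M)).comp MvPolynomial.C) ev evB ?_
    (RingHom.ext fun x => (hev0 _).trans (hC x)) (RingHom.ext fun x => (hevB _).trans (hιB0 x)) ?_
  · intro a
    obtain ⟨⟨x, m⟩, hm⟩ := IsLocalization.surj ((IsUnit.submonoid A).comap
      (algebraMap (Algebra.adjoin k (s : Set A)) A)) a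
    obtain ⟨g, hg⟩ := hadj x.1 x.2
    obtain ⟨g', hg'⟩ := hadj m.1.1 m.1.2
    have hmem : g' ∈ M := by
      rw [hM, hg']
      exact m.2
    refine ⟨IsLocalization.mk' _ g ⟨g', hmem⟩, ?_⟩
    have hspec := congrArg ev (IsLocalization.mk'_spec (Localization M) g (⟨g', hmem⟩ : M))
    rw [map_mul, hev0, hev0, hg, hg'] at hspec
    refine IsUnit.mul_right_cancel (show IsUnit (m.1.1 : A) from m.2) ?_
    rw [hspec]
    exact hm.symm
  · apply IsLocalization.ringHom_ext M
    refine RingHom.ext fun g => ?_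
    show π (evB (algebraMap _ _ g)) = algebraMap A B (ev (algebraMap _ _ g))
    rw [hev0, hevB, ← RingHom.comp_apply, hπ0, RingHom.comp_apply]

end Groth.Agent.W2Lift
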