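import Mathlib
import Groth.Agent.W2Lift.Basic

/-!
The quadric truncated by Frobenius powers does not lift over `W₂(k)`.
-/

set_option autoImplicit false

universe u

open FrobAlg MvPolynomial

namespace Groth.Agent.W2Lift.Quadric

noncomputable section

/-- `((ΣX)^p - ΣX^p)/p` exists over `ℤ`. -/
theorem exists_witt (p : ℕ) [Fact p.Prime] (n : ℕ) :
    ∃ W : MvPolynomial (Fin n) ℤ,
      (∑ i, X i) ^ p - ∑ i, X i ^ p = C (p : ℤ) * W := by
  have : C (p : ℤ) ∣ ((∑ i, X i) ^ p - ∑ i, X i ^ p : MvPolynomial (Fin n) ℤ) := by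
    rw [C_dvd_iff_zmod]
    simp only [map_sub, map_pow, map_sum, map_X]
    rw [sum_pow_char p, sub_self]
  exact this

/-- The base change of dual numbers of polynomials. -/
def dnMap {R S : Type*} [CommRing R] [CommRing S] (f : R →+* S) : DualNumber R →+* DualNumber S where
  toFun x := TrivSqZeroExt.inl (f x.fst) + TrivSqZeroExt.inr (f x.snd)
  map_one' := by ext <;> simp
  map_zero' := by ext <;> simp
  map_add' x y := by ext <;> simp
  map_mul' x y := by ext <;> simp <;> ring

@[simp] lemma dnMap_fst {R S : Type*} [CommRing R] [CommRing S] (f : R →+* S) (x : DualNumber R) :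
    (dnMap f x).fst = f x.fst := by simp [dnMap]

@[simp] lemma dnMap_snd {R S : Type*} [CommRing R] [CommRing S] (f : R →+* S) (x : DualNumber R) :
    (dnMap f x).snd = f x.snd := by simp [dnMap]

/-- The values `ε, v, -(ε+v), 0, …`. -/
def L (R : Type*) [CommRing R] (m : ℕ) : Fin (m + 3) → DualNumber (Polynomial R) :=
  Fin.cons DualNumber.eps (Fin.cons (TrivSqZeroExt.inl Polynomial.X)
    (Fin.cons (-(DualNumber.eps + TrivSqZeroExt.inl Polynomial.X)) 0))

lemma sum_L (R : Type*) [CommRing R] (m : ℕ) : ∑ i, L R m i = 0 := by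
  simp [Fin.sum_univ_succ, L]

lemma dnMap_L (R : Type*) [CommRing R] (m : ℕ) (i : Fin (m + 3)) :
    dnMap (Polynomial.mapRingHom (Int.castRingHom R)) (L ℤ m i) = L R m i := by
  refine Fin.cases ?_ (fun i => Fin.cases ?_ (fun i => Fin.cases ?_ (fun i => ?_) i) i) i <;>
    simp only [L, Fin.cons_succ, Fin.cons_zero] <;> ext <;> simp

theorem coeff_witt_L (p : ℕ) [hp : Fact p.Prime] (m : ℕ) (W : MvPolynomial (Fin (m + 3)) ℤ)
    (hW : (∑ i, X i) ^ p - ∑ i, X i ^ p = C (p : ℤ) * W) :
    (aeval (L ℤ m) W).snd.coeff (p - 1) = (-1) ^ (p - 1) := by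
  have h2 : p - 1 + 1 = p := Nat.sub_add_cancel hp.out.one_le
  have h1 : p - 1 ≠ 0 := by have := hp.out.two_le; omega
  have h := congrArg (fun q => (aeval (L ℤ m) q).snd) hW
  simp only [map_sub, map_pow, map_sum, map_mul, aeval_X, sum_L, aeval_C] at h
  rw [zero_pow hp.out.ne_zero] at h
  generalize aeval (L ℤ m) W = a at h ⊢
  simp [Fin.sum_univ_succ, L, TrivSqZeroExt.snd_pow, Nat.pred_eq_sub_one, h1,
    zero_pow hp.out.ne_zero, TrivSqZeroExt.algebraMap_eq_inl'] at h
  rcases h with h | h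
  · rw [← h, neg_pow]
    rcases Nat.even_or_odd (p - 1) with hh | hh <;> simp [hh.neg_one_pow, Polynomial.coeff_X_pow]
  · exact absurd h hp.out.ne_zero

variable (k : Type u) [Field k] {m : ℕ}

/-- Exponents balanced in `xᵢ, yᵢ`. -/
def Bal (d : Fin (m + 3) × Fin 2 →₀ ℕ) : Prop := ∀ i, d (i, 0) = d (i, 1)

open Classical in
/-- The projection to balanced monomials followed by evaluation. -/
def psi : MvPolynomial (Fin (m + 3) × Fin 2) k →ₗ[k] DualNumber (Polynomial k) :=
  (MvPolynomial.basisMonomials _ k).constr k fun d =>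
    if Bal d then ∏ i, L k m i ^ d (i, 0) else 0

open Classical in
lemma psi_monomial (d : Fin (m + 3) × Fin 2 →₀ ℕ) (a : k) :
    psi k (monomial d a) = a • (if Bal d then ∏ i, L k m i ^ d (i, 0) else 0) := by
  have : monomial d a = a • MvPolynomial.basisMonomials _ k d := by simp [smul_monomial]
  rw [this, map_smul, psi, Module.Basis.constr_basis]

lemma psi_mul_z (i : Fin (m + 3)) (f : MvPolynomial (Fin (m + 3) × Fin 2) k) :
    psi k (f * (X (i, 0) * X (i, 1))) = L k m i * psi k f := by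
  classical
  induction f using MvPolynomial.induction_on' with
  | add p q hp hq => rw [add_mul, map_add, map_add, hp, hq, mul_add]
  | monomial d a =>
    rw [show (X (i, 0) * X (i, 1) : MvPolynomial (Fin (m + 3) × Fin 2) k)
        = monomial (Finsupp.single (i, 0) 1 + Finsupp.single (i, 1) 1) 1 by
      rw [X, X, monomial_mul, one_mul], monomial_mul, mul_one, psi_monomial, psi_monomial,
      mul_smul_comm]
    congr 1
    have hb : Bal (d + (Finsupp.single (i, 0) 1 + Finsupp.single (i, 1) 1)) ↔ Bal d := by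
      refine forall_congr' fun j => ?_
      by_cases h : j = i
      · subst h; simp [Finsupp.single_apply]
      · simp [Finsupp.single_apply, Prod.ext_iff, Ne.symm h]
    by_cases h : Bal d
    · rw [if_pos (hb.2 h), if_pos h]
      simp only [Finsupp.add_apply, pow_add, Finset.prod_mul_distrib, Finsupp.single_apply,
        Prod.mk.injEq]
      simp [mul_comm]
    · rw [if_neg (mt hb.1 h), if_neg h, mul_zero]

lemma psi_aeval (g : MvPolynomial (Fin (m + 3)) ℤ) :
    psi k (aeval (fun i => (X (i, 0) * X (i, 1) : MvPolynomial (Fin (m + 3) × Fin 2) k)) g)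
      = aeval (L k m) g := by
  classical
  induction g using MvPolynomial.induction_on with
  | C a =>
    have h0 : Bal (m := m) (0 : Fin (m + 3) × Fin 2 →₀ ℕ) := fun i => rfl
    rw [aeval_C, aeval_C, eq_intCast, eq_intCast, ← map_intCast (C : k →+* _) a, C_apply,
      psi_monomial, if_pos h0]
    simp [Algebra.smul_def]
  | add p q hp hq => rw [map_add, map_add, map_add, hp, hq]
  | mul_X p i hp => rw [map_mul (aeval _) p, map_mul (aeval _) p, aeval_X, aeval_X, psi_mul_z, hp, mul_comm]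

lemma psi_mul_pow (p : ℕ) (v : Fin (m + 3) × Fin 2) (f : MvPolynomial (Fin (m + 3) × Fin 2) k) :
    ∃ r, psi k (f * X v ^ p) = L k m v.1 ^ p * r := by
  classical
  induction f using MvPolynomial.induction_on' with
  | add a b ha hb =>
    obtain ⟨r, hr⟩ := ha
    obtain ⟨s, hs⟩ := hb
    exact ⟨r + s, by rw [add_mul, map_add, hr, hs, mul_add]⟩
  | monomial d a =>
    rw [X_pow_eq_monomial, monomial_mul, mul_one, psi_monomial]
    by_cases h : Bal (d + Finsupp.single v p)
    · rw [if_pos h]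
      have hle : p ≤ (d + Finsupp.single v p) (v.1, 0) := by
        have h' := h v.1
        obtain ⟨i, b⟩ := v
        fin_cases b
        · simp
        · rw [h']; simp
      obtain ⟨t, ht⟩ := Nat.exists_eq_add_of_le hle
      refine ⟨a • (L k m v.1 ^ t * ∏ i ∈ Finset.univ.erase v.1,
        L k m i ^ (d + Finsupp.single v p) (i, 0)), ?_⟩
      rw [← Finset.mul_prod_erase Finset.univ _ (Finset.mem_univ v.1), ht, pow_add,
        mul_smul_comm, mul_assoc]
    · rw [if_neg h]; exact ⟨0, by simp⟩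

lemma L_pow_char (p : ℕ) [hp : Fact p.Prime] [CharP k p] (i : Fin (m + 3)) :
    ∃ s, L k m i ^ p = TrivSqZeroExt.inl (Polynomial.X ^ p) * s := by
  have : CharP (DualNumber (Polynomial k)) p :=
    charP_of_injective_algebraMap (RingHom.injective (algebraMap k (DualNumber (Polynomial k)))) p
  have he : (DualNumber.eps : DualNumber (Polynomial k)) ^ p = 0 := by
    obtain ⟨q, hq⟩ := Nat.exists_eq_add_of_le hp.out.two_le
    rw [hq, pow_add, pow_two, DualNumber.eps_mul_eps, zero_mul]
  refine Fin.cases ?_ (fun i => Fin.cases ?_ (fun i => Fin.cases ?_ (fun i => ?_) i) i) i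
  · exact ⟨0, by simpa [L] using he⟩
  · exact ⟨1, by simp [L, TrivSqZeroExt.inl_pow]⟩
  · refine ⟨(-1) ^ p, ?_⟩
    simp only [L, Fin.cons_succ, Fin.cons_zero]
    rw [neg_pow, add_pow_char, he, zero_add, TrivSqZeroExt.inl_pow, mul_comm]
  · exact ⟨0, by simp [L, zero_pow hp.out.ne_zero]⟩

/-- The defining ideal. -/
abbrev qIdeal (p : ℕ) : Ideal (MvPolynomial (Fin (m + 3) × Fin 2) k) :=
  Ideal.span (insert (∑ i : Fin (m + 3), X (i, (0 : Fin 2)) * X (i, (1 : Fin 2)))
    (Set.range fun v : Fin (m + 3) × Fin 2 => (X v : MvPolynomial (Fin (m + 3) × Fin 2) k) ^ p))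

lemma functional_vanish (p : ℕ) [hp : Fact p.Prime] [CharP k p]
    {f : MvPolynomial (Fin (m + 3) × Fin 2) k} (hf : f ∈ qIdeal k p) :
    ∀ a, (psi k (a * f)).snd.coeff (p - 1) = 0 := by
  induction hf using Submodule.span_induction with
  | mem g hg =>
    intro a
    rcases Set.mem_insert_iff.1 hg with rfl | ⟨v, rfl⟩
    · rw [Finset.mul_sum, map_sum]
      simp only [psi_mul_z, ← Finset.sum_mul, sum_L, zero_mul]
      simp
    · obtain ⟨r, hr⟩ := psi_mul_pow k p v a
      obtain ⟨s, hs⟩ := L_pow_char k p v.1 (m := m)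
      rw [hr, hs, mul_assoc]
      simp [TrivSqZeroExt.snd_mul, Polynomial.coeff_X_pow_mul', hp.out.pos]
  | zero => intro a; simp
  | add x y _ _ hx hy =>
    intro a
    rw [mul_add, map_add, TrivSqZeroExt.snd_add, Polynomial.coeff_add, hx, hy, add_zero]
  | smul c x _ hx => intro a; rw [smul_eq_mul, ← mul_assoc]; exact hx _

theorem witt_notMem (p : ℕ) [hp : Fact p.Prime] [CharP k p] (W : MvPolynomial (Fin (m + 3)) ℤ)
    (hW : (∑ i, X i) ^ p - ∑ i, X i ^ p = C (p : ℤ) * W) :
    aeval (fun i => (X (i, 0) * X (i, 1) : MvPolynomial (Fin (m + 3) × Fin 2) k)) W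
      ∉ qIdeal k p := by
  intro hmem
  have h := functional_vanish k p hmem 1
  rw [one_mul, psi_aeval] at h
  have hn : aeval (L k m) W
      = dnMap (Polynomial.mapRingHom (Int.castRingHom k)) (aeval (L ℤ m) W) := by
    have := AlgHom.congr_fun (comp_aeval (L ℤ m)
      (dnMap (Polynomial.mapRingHom (Int.castRingHom k))).toIntAlgHom) W
    simp only [AlgHom.comp_apply, RingHom.toIntAlgHom_apply, dnMap_L] at this
    exact this.symm
  rw [hn, dnMap_snd, Polynomial.coe_mapRingHom, Polynomial.coeff_map, coeff_witt_L p m W hW] at h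
  simp at h

end

end Groth.Agent.W2Lift.Quadric

namespace Groth.Agent.W2Lift

variable (p : ℕ) [Fact p.Prime] (k : Type u) [Field k] [CharP k p] [PerfectRing k p]

/-- The quotient by the quadric and the Frobenius powers of the variables has no lifting. -/
theorem not_liftable_quadric (n : ℕ) (hn : 3 ≤ n) :
    ¬ IsW2Liftable p k (MvPolynomial (Fin n × Fin 2) k ⧸ Ideal.span
      (insert (∑ i : Fin n, MvPolynomial.X (i, (0 : Fin 2)) * MvPolynomial.X (i, (1 : Fin 2)))
        (Set.range fun v : Fin n × Fin 2 =>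
          (MvPolynomial.X v : MvPolynomial (Fin n × Fin 2) k) ^ p))) := by
  obtain ⟨m, rfl⟩ : ∃ m, n = m + 3 := ⟨n - 3, by omega⟩
  rintro ⟨B, _, ι, π, h⟩
  obtain ⟨W, hW⟩ := Quadric.exists_witt p (m + 3)
  apply Quadric.witt_notMem k p W hW
  rw [← Ideal.Quotient.eq_zero_iff_mem]
  choose b hb using fun v => h.surj (Ideal.Quotient.mk (Quadric.qIdeal k p) (X v))
  let z : Fin (m + 3) → B := fun i => b (i, 0) * b (i, 1)
  have hp2 : (p : B) * p = 0 := by rw [← map_natCast ι p]; exact p_mul_p' p ι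
  have hker : ∀ x, π x = 0 → ∃ c, x = (p : B) * c := fun x hx => by
    obtain ⟨c, hc⟩ := IsLift.mem_ker p ι h hx
    exact ⟨c, by rwa [map_natCast] at hc⟩
  have hs : (∑ i, z i) ^ p = 0 := by
    obtain ⟨c, hc⟩ := hker (∑ i, z i) (by
      simp only [z, map_sum, map_mul, hb]
      rw [← Finset.sum_congr rfl (fun i _ => map_mul (Ideal.Quotient.mk (Quadric.qIdeal k p))
        (X (i, 0)) (X (i, 1))), ← map_sum, Ideal.Quotient.eq_zero_iff_mem]
      exact Ideal.subset_span (Set.mem_insert _ _))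
    obtain ⟨q, hq⟩ := Nat.exists_eq_add_of_le (Fact.out : p.Prime).two_le
    rw [hc, mul_pow]
    have : (p : B) ^ p = 0 := by
      calc (p : B) ^ p = (p : B) ^ (2 + q) := by rw [← hq]
        _ = 0 := by rw [pow_add, pow_two, hp2, zero_mul]
    rw [this, zero_mul]
  have hb' : ∀ v, ∃ c, b v ^ p = (p : B) * c := fun v => hker _ (by
    rw [map_pow, hb, ← map_pow, Ideal.Quotient.eq_zero_iff_mem]
    exact Ideal.subset_span (Set.mem_insert_of_mem _ ⟨v, rfl⟩))
  have hzp : ∀ i, z i ^ p = 0 := fun i => by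
    obtain ⟨c, hc⟩ := hb' (i, 0)
    obtain ⟨c', hc'⟩ := hb' (i, 1)
    rw [mul_pow, hc, hc', mul_mul_mul_comm, hp2, zero_mul]
  have hpw : ι p * MvPolynomial.aeval z W = 0 := by
    have := congrArg (MvPolynomial.aeval z) hW
    simp only [map_sub, map_pow, map_sum, map_mul, aeval_X, aeval_C, hs, hzp] at this
    simpa [map_natCast] using this.symm
  obtain ⟨b', hb''⟩ := ann_of_flat p ι h.flat hpw
  have h0 : π (MvPolynomial.aeval z W) = 0 := by rw [hb'', map_mul, IsLift.pi_p p ι h, zero_mul]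
  rw [← h0, ← Ideal.Quotient.mkₐ_eq_mk ℤ, ← AlgHom.comp_apply, comp_aeval,
    show π (MvPolynomial.aeval z W) = π.toIntAlgHom (MvPolynomial.aeval z W) from rfl,
    ← AlgHom.comp_apply, comp_aeval]
  congr 2
  funext i
  show Ideal.Quotient.mk _ (X (i, 0) * X (i, 1)) = π (z i)
  simp only [z, map_mul, hb]

end Groth.Agent.W2Lift
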