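import Groth.Agent.W2Lift.Basic
import Groth.Agent.Hensel.SmoothQuotientLift

/-! Smooth algebras over an F-liftable algebra are F-liftable. -/

set_option autoImplicit false
set_option backward.isDefEq.respectTransparency false

universe u v

open FrobAlg

noncomputable section

namespace Groth.Agent.W2Lift

lemma exists_ringHom_lift {B R T : Type v} [CommRing B] [CommRing R] [CommRing T] [Algebra B R]
    [Algebra.FormallySmooth B R] (f : B →+* T) (J : Ideal T) (hJ : IsNilpotent J) (g : R →+* T ⧸ J)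
    (hg : g.comp (algebraMap B R) = (Ideal.Quotient.mk J).comp f) :
    ∃ Φ : R →+* T, Φ.comp (algebraMap B R) = f ∧ (Ideal.Quotient.mk J).comp Φ = g := by
  letI := f.toAlgebra
  let gA : R →ₐ[B] T ⧸ J := { g with commutes' := fun b => RingHom.congr_fun hg b }
  obtain ⟨Φ, hΦ⟩ := Algebra.FormallySmooth.exists_lift J hJ gA
  exact ⟨Φ.toRingHom, RingHom.ext fun b => Φ.commutes b, RingHom.ext fun x => AlgHom.congr_fun hΦ x⟩

lemma exists_powHom (p : ℕ) [Fact p.Prime] (A : Type v) [CommRing A] (hp : (p : A) = 0) :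
    ∃ F : A →+* A, ∀ a, F a = a ^ p := by
  rcases subsingleton_or_nontrivial A with hA | hA
  · exact ⟨RingHom.id A, fun _ => Subsingleton.elim _ _⟩
  · haveI : CharP A p := (CharP.charP_iff_prime_eq_zero Fact.out).mpr hp
    exact ⟨frobenius A p, fun _ => rfl⟩

theorem isFLiftable_of_smooth {p : ℕ} [Fact p.Prime] {k : Type u} [Field k] [CharP k p] [PerfectRing k p]
    (A₀ A : Type v) [CommRing A₀] [CommRing A] [Algebra k A₀] [Algebra k A] [Algebra A₀ A]
    [IsScalarTower k A₀ A] [Algebra.Smooth A₀ A] (hA : IsFLiftable p k A₀) : IsFLiftable p k A := by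
  obtain ⟨B, _, ι, π, Φ, h⟩ := hA
  set K := RingHom.ker π with hK
  let e₀ : (B ⧸ K) ≃+* A₀ := RingHom.quotientKerEquivOfSurjective h.surj
  letI : Algebra (B ⧸ K) A := ((algebraMap A₀ A).comp e₀.toRingHom).toAlgebra
  haveI : Algebra.Smooth (B ⧸ K) A := by
    have h1 : (algebraMap A₀ A).Smooth := RingHom.smooth_algebraMap.2 inferInstance
    exact RingHom.smooth_algebraMap.1 ((RingHom.Smooth.of_bijective (f := e₀.toRingHom) e₀.bijective).comp h1)
  obtain ⟨R, _, _, _, ⟨e⟩⟩ := Hensel.exists_smooth_lift_quotient B K A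
  set J := K.map (algebraMap B R) with hJ
  let π' : R →+* A := (e : (R ⧸ J) →+* A).comp (Ideal.Quotient.mk J)
  have hπ' : π'.comp (algebraMap B R) = (algebraMap A₀ A).comp π := by
    ext b
    show e (Ideal.Quotient.mk J (algebraMap B R b)) = _
    rw [show Ideal.Quotient.mk J (algebraMap B R b) = algebraMap (B ⧸ K) (R ⧸ J) (Ideal.Quotient.mk K b) from rfl,
      e.commutes]
    rfl
  have hker : RingHom.ker π' = J := by
    ext x
    rw [RingHom.mem_ker, show π' x = e (Ideal.Quotient.mk J x) from rfl, EmbeddingLike.map_eq_zero_iff,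
      Ideal.Quotient.eq_zero_iff_mem]
  have hKeq : K = (RingHom.ker (res p k)).map ι := h.ker_eq
  have hK2 : K * K = ⊥ := by
    rw [hKeq, ← Ideal.map_mul, ker_res, Ideal.span_singleton_mul_span_singleton, p_mul_p, Ideal.span_singleton_eq_bot.2 rfl,
      Ideal.map_bot]
  have hpA : (p : A) = 0 := by rw [← map_natCast (algebraMap k A), CharP.cast_eq_zero, map_zero]
  obtain ⟨F, hF⟩ := exists_powHom p A hpA
  obtain ⟨Φ', hΦ', hΦ'g⟩ := exists_ringHom_lift ((algebraMap B R).comp Φ) J
    ⟨2, by rw [hJ, pow_two, ← Ideal.map_mul, hK2, Ideal.map_bot]; rfl⟩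
    (((e.symm : A →+* R ⧸ J).comp F).comp π') (by
      ext b
      show e.symm (F (π' (algebraMap B R b))) = Ideal.Quotient.mk J (algebraMap B R (Φ b))
      rw [← RingHom.comp_apply π', hπ', RingHom.comp_apply, hF, ← map_pow, ← h.red b, ← RingHom.comp_apply, ← hπ',
        RingHom.comp_apply]
      exact e.symm_apply_apply _)
  refine ⟨R, inferInstance, (algebraMap B R).comp ι, π', Φ', ⟨?_, ?_, ?_, ?_⟩, ?_, fun x => ?_⟩
  · exact h.flat.comp (RingHom.flat_algebraMap_iff.2 inferInstance)
  · exact e.surjective.comp Ideal.Quotient.mk_surjective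
  · rw [hker, ← Ideal.map_map, hJ, hKeq]
  · rw [← RingHom.comp_assoc, hπ', RingHom.comp_assoc, h.comm, ← RingHom.comp_assoc, ← IsScalarTower.algebraMap_eq]
  · rw [← RingHom.comp_assoc, hΦ', RingHom.comp_assoc, h.semi, ← RingHom.comp_assoc]
  · have := congrArg e (RingHom.congr_fun hΦ'g x)
    show e (Ideal.Quotient.mk J (Φ' x)) = _
    rw [show Ideal.Quotient.mk J (Φ' x) = e.symm (F (π' x)) from RingHom.congr_fun hΦ'g x, e.apply_symm_apply, hF]

theorem isFLiftable_self (p : ℕ) [Fact p.Prime] (k : Type u) [Field k] [CharP k p] [PerfectRing k p] :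
    IsFLiftable p k k :=
  ⟨W2 p k, inferInstance, RingHom.id _, res p k, sigma p k,
    ⟨⟨RingHom.Flat.id _, res_surjective p k, (Ideal.map_id _).symm, rfl⟩, rfl, fun x => by
      obtain ⟨X, rfl⟩ := WittVector.truncate_surjective p 2 k x
      rw [res_apply, res_apply]
      exact TruncatedWittVector.coeff_mk (p := p) (fun i => (WittVector.truncate 2 X).coeff i ^ p) 0⟩⟩

end Groth.Agent.W2Lift
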