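import Groth.Agent.W2Lift.Basic

/-! Frobenius liftings as maps to Witt vectors of length two. -/

set_option autoImplicit false
set_option backward.isDefEq.respectTransparency false

universe u

open FrobAlg

noncomputable section

namespace Groth.Agent.W2Lift

variable {p : ℕ} [Fact p.Prime] {k : Type u} [Field k] [CharP k p] [PerfectRing k p]
  {A B : Type u} [CommRing A] [CommRing B] [Algebra k A] {ι : W2 p k →+* B} {π : B →+* A}

lemma natCast_eq_iota : (p : B) = ι (p : W2 p k) := (map_natCast ι p).symm

lemma p_mul_eq_zero (h : IsLift p k A B ι π) {b : B} (hb : π b = 0) : (p : B) * b = 0 := by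
  obtain ⟨c, rfl⟩ := IsLift.mem_ker p ι h hb
  rw [natCast_eq_iota (ι := ι), ← mul_assoc, p_mul_p', zero_mul]

lemma pi_eq_zero_of_p_mul (h : IsLift p k A B ι π) {b : B} (hb : (p : B) * b = 0) : π b = 0 := by
  obtain ⟨c, rfl⟩ := ann_of_flat p ι h.flat (by rwa [natCast_eq_iota (ι := ι)] at hb)
  rw [map_mul, IsLift.pi_p p ι h, zero_mul]

lemma pow_eq_zero_of_pi (h : IsLift p k A B ι π) {b : B} (hb : π b = 0) : b ^ p = 0 := by
  obtain ⟨c, rfl⟩ := IsLift.mem_ker p ι h hb
  rw [mul_pow, pow_eq_zero_of_le (Fact.out : p.Prime).two_le (show ι (p : W2 p k) ^ 2 = 0 by rw [sq, p_mul_p']), zero_mul]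

lemma map_mapW_surjective (h : IsLift p k A B ι π) :
    Function.Surjective ((WittVector.truncate 2).comp (WittVector.map π) : WittVector p B →+* W2 p A) :=
  (WittVector.truncate_surjective p 2 A).comp (WittVector.map_surjective π h.surj)

/-- The first ghost component, well defined on `W₂(A)`. -/
def gh (h : IsLift p k A B ι π) : W2 p A →+* B :=
  RingHom.liftOfSurjective _ (map_mapW_surjective h)
    ⟨WittVector.ghostComponent 1, fun x hx => by
      rw [RingHom.mem_ker, RingHom.comp_apply] at hx
      have h0 := congrArg (fun w : W2 p A => w.coeff 0) hx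
      have h1 := congrArg (fun w : W2 p A => w.coeff 1) hx
      simp only [WittVector.coeff_truncate, WittVector.map_coeff, TruncatedWittVector.coeff_zero] at h0 h1
      rw [RingHom.mem_ker, WittVector.ghostComponent_apply, wittPolynomial_one]
      simp only [map_add, map_mul, map_pow, map_natCast, MvPolynomial.aeval_X]
      rw [show (x.coeff 0) ^ p = 0 from pow_eq_zero_of_pi h h0, add_zero]
      exact p_mul_eq_zero h h1⟩

lemma gh_map (h : IsLift p k A B ι π) (x : WittVector p B) :
    gh h (WittVector.truncate 2 (WittVector.map π x)) = (p : B) * x.coeff 1 + x.coeff 0 ^ p := by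
  rw [gh, show WittVector.truncate 2 (WittVector.map π x) = ((WittVector.truncate 2).comp (WittVector.map π)) x from rfl,
    RingHom.liftOfSurjective, RingHom.liftOfRightInverse_comp_apply, WittVector.ghostComponent_apply,
    wittPolynomial_one]
  simp only [map_add, map_mul, map_pow, map_natCast, MvPolynomial.aeval_X]

lemma exists_W (h : IsLift p k A B ι π) (a : W2 p A) : ∃ x : WittVector p B,
    WittVector.truncate 2 (WittVector.map π x) = a :=
  map_mapW_surjective h a

lemma eq_of_res_gh (h : IsLift p k A B ι π) {a b : W2 p A} (h0 : res p A a = res p A b)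
    (h1 : gh h a = gh h b) : a = b := by
  rw [← sub_eq_zero]
  have h0' : res p A (a - b) = 0 := by rw [map_sub, h0, sub_self]
  have h1' : gh h (a - b) = 0 := by rw [map_sub, h1, sub_self]
  obtain ⟨x, hx⟩ := exists_W h (a - b)
  rw [← hx] at h0' h1' ⊢
  rw [res_truncate, WittVector.map_coeff] at h0'
  rw [gh_map, pow_eq_zero_of_pi h h0', add_zero] at h1'
  have h2 := pi_eq_zero_of_p_mul h h1'
  refine TruncatedWittVector.ext fun i => ?_
  rw [WittVector.coeff_truncate, WittVector.map_coeff, TruncatedWittVector.coeff_zero]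
  fin_cases i
  · exact h0'
  · exact h2

lemma pi_gh (h : IsLift p k A B ι π) (a : W2 p A) : π (gh h a) = res p A a ^ p := by
  obtain ⟨x, rfl⟩ := exists_W h a
  rw [gh_map, res_truncate, WittVector.map_coeff, map_add, map_mul, map_pow, natCast_eq_iota (ι := ι),
    IsLift.pi_p p ι h, zero_mul, zero_add]

lemma gh_teichmuller (h : IsLift p k A B ι π) (b : B) :
    gh h (WittVector.truncate 2 (WittVector.teichmuller p (π b))) = b ^ p := by
  rw [← WittVector.map_teichmuller, gh_map, WittVector.teichmuller_coeff_zero,
    WittVector.teichmuller_coeff_pos p b 1 one_pos, mul_zero, zero_add]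

lemma sigma_eq_gh (c : W2 p k) : ∃ x : WittVector p (W2 p k),
    (∀ i : Fin 2, res p k (x.coeff i) = c.coeff i) ∧ sigma p k c = (p : W2 p k) * x.coeff 1 + x.coeff 0 ^ p := by
  let x : WittVector p (W2 p k) := WittVector.mk p fun i =>
    WittVector.truncate 2 (WittVector.teichmuller p (if h : i < 2 then c.coeff ⟨i, h⟩ else 0))
  refine ⟨x, fun i => ?_, ?_⟩
  · show res p k (WittVector.truncate 2 (WittVector.teichmuller p _)) = _
    rw [res_truncate, WittVector.teichmuller_coeff_zero, dif_pos i.2]
  · obtain ⟨C, rfl⟩ := WittVector.truncate_surjective p 2 k c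
    show WittGrp.frobFun p 2 (WittVector.truncate 2 C) = (p : W2 p k) * WittVector.truncate 2 (WittVector.teichmuller p _) +
      WittVector.truncate 2 (WittVector.teichmuller p _) ^ p
    rw [WittGrp.frobFun_truncate, dif_pos (by omega : (1 : ℕ) < 2), dif_pos (by omega : (0 : ℕ) < 2),
      WittVector.coeff_truncate, WittVector.coeff_truncate,
      ← map_natCast (WittVector.truncate (p := p) (R := k) 2) p, ← map_mul, ← map_pow, ← map_pow, ← map_add]
    rw [mul_comm, ← WittVector.frobenius_verschiebung]
    refine TruncatedWittVector.ext fun i => ?_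
    rw [WittVector.coeff_truncate, WittVector.coeff_truncate, WittVector.coeff_add_of_disjoint]
    · fin_cases i
      · show (WittVector.frobenius C).coeff 0 = _
        rw [WittVector.coeff_frobenius_charP, WittVector.coeff_frobenius_charP, WittVector.verschiebung_coeff_zero,
          zero_pow (Fact.out : p.Prime).ne_zero, zero_add, WittVector.teichmuller_coeff_zero]
      · show (WittVector.frobenius C).coeff 1 = _
        rw [WittVector.coeff_frobenius_charP, WittVector.coeff_frobenius_charP, WittVector.verschiebung_coeff_succ,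
          WittVector.teichmuller_coeff_zero, WittVector.teichmuller_coeff_pos p _ 1 one_pos, add_zero]
    · intro n
      rcases n with - | n
      · left
        rw [WittVector.coeff_frobenius_charP, WittVector.verschiebung_coeff_zero, zero_pow (Fact.out : p.Prime).ne_zero]
      · right
        exact WittVector.teichmuller_coeff_pos p _ _ n.succ_pos

lemma gh_truncMap (h : IsLift p k A B ι π) :
    (gh h).comp (WittGrp.truncMap p 2 (algebraMap k A)) = ι.comp (sigma p k) := by
  ext c
  obtain ⟨x, hx, hs⟩ := sigma_eq_gh (p := p) (k := k) c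
  rw [RingHom.comp_apply, RingHom.comp_apply, hs, map_add, map_mul, map_natCast, map_pow,
    ← WittVector.map_coeff ι x 1, ← WittVector.map_coeff ι x 0, ← gh_map h]
  congr 1
  refine TruncatedWittVector.ext fun i => ?_
  rw [WittVector.coeff_truncate, WittVector.map_coeff, WittVector.map_coeff, ← RingHom.comp_apply π, h.comm,
    RingHom.comp_apply, hx]
  exact TruncatedWittVector.coeff_mk (p := p) (fun i => algebraMap k A (c.coeff i)) i

theorem frob_iff_theta (h : IsLift p k A B ι π) :
    (∃ Φ : B →+* B, IsFrobLift p k A B ι π Φ) ↔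
      ∃ θ : B →+* W2 p A, (res p A).comp θ = π ∧ θ.comp ι = WittGrp.truncMap p 2 (algebraMap k A) := by
  constructor
  · rintro ⟨Φ, hΦ⟩
    have hex : ∀ b, ∃ a : W2 p A, res p A a = π b ∧ gh h a = Φ b := fun b => by
      obtain ⟨d, hd⟩ := IsLift.mem_ker p ι h (b := Φ b - b ^ p) (by rw [map_sub, map_pow, hΦ.red, sub_self])
      refine ⟨WittVector.truncate 2 (WittVector.map π (WittVector.mk p fun i => if i = 0 then b else d)), ?_, ?_⟩
      · rw [res_truncate, WittVector.map_coeff]; rfl
      · rw [gh_map]
        show (p : B) * d + b ^ p = _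
        rw [natCast_eq_iota (ι := ι), ← hd, sub_add_cancel]
    choose θ hθ0 hθ1 using hex
    let θ' : B →+* W2 p A :=
      { toFun := θ
        map_one' := eq_of_res_gh h (by rw [hθ0, map_one, map_one]) (by rw [hθ1, map_one, map_one])
        map_zero' := eq_of_res_gh h (by rw [hθ0, map_zero, map_zero]) (by rw [hθ1, map_zero, map_zero])
        map_mul' := fun a b => eq_of_res_gh h (by simp only [map_mul, hθ0]) (by simp only [map_mul, hθ1])
        map_add' := fun a b => eq_of_res_gh h (by simp only [map_add, hθ0]) (by simp only [map_add, hθ1]) }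
    refine ⟨θ', RingHom.ext hθ0, RingHom.ext fun c => eq_of_res_gh h ?_ ?_⟩
    · show res p A (θ (ι c)) = _
      rw [hθ0, ← RingHom.comp_apply π, h.comm, RingHom.comp_apply, res_apply, res_apply]
      exact (TruncatedWittVector.coeff_mk (p := p) (fun i => algebraMap k A (c.coeff i)) 0).symm
    · show gh h (θ (ι c)) = _
      rw [hθ1, ← RingHom.comp_apply Φ, hΦ.semi, ← gh_truncMap h]
      rfl
  · rintro ⟨θ, h0, h1⟩
    exact ⟨(gh h).comp θ, h, by rw [RingHom.comp_assoc, h1, gh_truncMap h],
      fun b => by rw [RingHom.comp_apply, pi_gh, ← RingHom.comp_apply, h0]⟩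

end Groth.Agent.W2Lift
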