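import Groth.Agent.W2Lift.Quadric
import Groth.Agent.W2Lift.Frob

/-! The quadric cone has no Frobenius lifting. -/

set_option autoImplicit false


universe u

open FrobAlg MvPolynomial

noncomputable section

namespace Groth.Agent.W2Lift.Quadric

variable (k : Type u) [Field k] {m : ℕ}

lemma witt_notMem' (p : ℕ) [hp : Fact p.Prime] [CharP k p] (W : MvPolynomial (Fin (m + 3)) ℤ)
    (hW : (∑ i, X i) ^ p - ∑ i, X i ^ p = C (p : ℤ) * W) (a : k) :
    aeval (fun i => (X (i, 0) * X (i, 1) : MvPolynomial (Fin (m + 3) × Fin 2) k)) W - C a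
      ∉ qIdeal k p := by
  intro hmem
  have h := functional_vanish k p hmem 1
  rw [one_mul, map_sub, psi_aeval, C_apply, psi_monomial] at h
  rw [if_pos (show Bal (m := m) 0 from fun _ => rfl)] at h
  have hn : aeval (L k m) W = dnMap (Polynomial.mapRingHom (Int.castRingHom k)) (aeval (L ℤ m) W) := by
    have := AlgHom.congr_fun (comp_aeval (L ℤ m)
      (dnMap (Polynomial.mapRingHom (Int.castRingHom k))).toIntAlgHom) W
    simp only [AlgHom.comp_apply, RingHom.toIntAlgHom_apply, dnMap_L] at this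
    exact this.symm
  rw [hn, TrivSqZeroExt.snd_sub, dnMap_snd, Polynomial.coe_mapRingHom, Polynomial.coeff_sub, Polynomial.coeff_map,
    coeff_witt_L p m W hW] at h
  simp at h

lemma pow_congr_const (p : ℕ) [hp : Fact p.Prime] [CharP k p] (f : MvPolynomial (Fin (m + 3) × Fin 2) k) :
    ∃ a : k, f ^ p - C a ∈ qIdeal k p := by
  refine ⟨constantCoeff f ^ p, ?_⟩
  rw [← Ideal.Quotient.eq_zero_iff_mem, map_sub, sub_eq_zero]
  have e : (Ideal.Quotient.mk (qIdeal k p (m := m))).comp (frobenius _ p) =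
      ((Ideal.Quotient.mk (qIdeal k p (m := m))).comp C).comp ((frobenius k p).comp constantCoeff) := by
    refine MvPolynomial.ringHom_ext (fun r => ?_) fun v => ?_
    · simp [frobenius_def]
    · simp only [RingHom.comp_apply, frobenius_def, constantCoeff_X, zero_pow hp.out.ne_zero, map_zero]
      exact Ideal.Quotient.eq_zero_iff_mem.2 (Ideal.subset_span (Set.mem_insert_of_mem _ ⟨v, rfl⟩))
  exact RingHom.congr_fun e f

end Groth.Agent.W2Lift.Quadric

namespace Groth.Agent.W2Lift

variable (p : ℕ) [Fact p.Prime] (k : Type u) [Field k] [CharP k p] [PerfectRing k p]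

theorem not_fliftable_quadric (n : ℕ) (hn : 3 ≤ n) :
    ¬ IsFLiftable p k (MvPolynomial (Fin n × Fin 2) k ⧸ Ideal.span
        {(∑ i : Fin n, MvPolynomial.X (i, (0 : Fin 2)) * MvPolynomial.X (i, (1 : Fin 2)) :
          MvPolynomial (Fin n × Fin 2) k)}) := by
  obtain ⟨m, rfl⟩ : ∃ m, n = m + 3 := ⟨n - 3, by omega⟩
  set q : Ideal (MvPolynomial (Fin (m + 3) × Fin 2) k) := Ideal.span {∑ i, X (i, (0 : Fin 2)) * X (i, (1 : Fin 2))}
  rintro ⟨B, _, ι, π, Φ, h⟩
  obtain ⟨W, hW⟩ := Quadric.exists_witt p (m + 3)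
  choose b hb using fun v => h.surj (Ideal.Quotient.mk q (X v))
  let z : Fin (m + 3) → B := fun i => b (i, 0) * b (i, 1)
  have hp2 : (p : B) * p = 0 := by rw [← map_natCast ι p]; exact p_mul_p' p ι
  have hker : ∀ x, π x = 0 → ∃ c, x = (p : B) * c := fun x hx => by
    obtain ⟨c, hc⟩ := IsLift.mem_ker p ι h.toIsLift hx
    exact ⟨c, by rwa [map_natCast] at hc⟩
  obtain ⟨c, hc⟩ := hker (∑ i, z i) (by
    simp only [z, map_sum, map_mul, hb]
    rw [← Finset.sum_congr rfl (fun i _ => map_mul (Ideal.Quotient.mk q) (X (i, 0)) (X (i, 1))), ← map_sum,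
      Ideal.Quotient.eq_zero_iff_mem]
    exact Ideal.mem_span_singleton_self _)
  choose d hd using fun v => hker (Φ (b v) - b v ^ p) (by rw [map_sub, map_pow, h.red, sub_self])
  have hzero : ∀ x : B, π x = 0 → (p : B) * x = 0 := fun x hx => p_mul_eq_zero h.toIsLift hx
  have hs : (∑ i, z i) ^ p = 0 := pow_eq_zero_of_pi h.toIsLift (by rw [hc, map_mul, map_natCast, show (p : _ ⧸ q) = 0 by rw [← map_natCast (algebraMap k _), CharP.cast_eq_zero, map_zero], zero_mul])
  have hpw : (p : B) * MvPolynomial.aeval z W = -∑ i, z i ^ p := by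
    have := congrArg (MvPolynomial.aeval z) hW
    simp only [map_sub, map_pow, map_sum, map_mul, aeval_X, aeval_C, hs, zero_sub] at this
    simpa [map_natCast] using this.symm
  have hΦ : ∀ i, Φ (z i) = z i ^ p + (p : B) * (b (i, 0) ^ p * d (i, 1) + b (i, 1) ^ p * d (i, 0)) := fun i => by
    have e0 := sub_eq_iff_eq_add.1 (hd (i, 0))
    have e1 := sub_eq_iff_eq_add.1 (hd (i, 1))
    simp only [z, map_mul, e0, e1, mul_pow]
    linear_combination (d (i, 0) * d (i, 1)) * hp2
  have hΦc : (p : B) * Φ c = (p : B) * c ^ p := by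
    rw [← sub_eq_zero, ← mul_sub]
    exact hzero _ (by rw [map_sub, map_pow, h.red, sub_self])
  have key : (p : B) * ((∑ i, (b (i, 0) ^ p * d (i, 1) + b (i, 1) ^ p * d (i, 0))) - MvPolynomial.aeval z W - c ^ p) = 0 := by
    have e := congrArg Φ hc
    rw [map_sum, Finset.sum_congr rfl fun i _ => hΦ i, Finset.sum_add_distrib, ← Finset.mul_sum, map_mul, map_natCast,
      hΦc] at e
    linear_combination e - hpw
  have h0 := pi_eq_zero_of_p_mul h.toIsLift key
  obtain ⟨f, hf⟩ := Ideal.Quotient.mk_surjective (π c)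
  obtain ⟨a, ha⟩ := Quadric.pow_congr_const k p f (m := m)
  apply Quadric.witt_notMem' k p W hW (-a)
  have hle : q ≤ Quadric.qIdeal k p := by
    rw [Ideal.span_le, Set.singleton_subset_iff]; exact Ideal.subset_span (Set.mem_insert _ _)
  let g := Ideal.Quotient.factor hle
  have hX : ∀ v, g (π (b v)) ^ p = 0 := fun v => by
    rw [hb, show g (Ideal.Quotient.mk q (X v)) = Ideal.Quotient.mk (Quadric.qIdeal k p) (X v) from rfl, ← map_pow,
      Ideal.Quotient.eq_zero_iff_mem]
    exact Ideal.subset_span (Set.mem_insert_of_mem _ ⟨v, rfl⟩)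
  have hW' : g (π (MvPolynomial.aeval z W)) =
      Ideal.Quotient.mk (Quadric.qIdeal k p) (aeval (fun i => (X (i, 0) * X (i, 1) : MvPolynomial _ k)) W) := by
    rw [show g (π (MvPolynomial.aeval z W)) = (g.comp π).toIntAlgHom (MvPolynomial.aeval z W) from rfl,
      ← AlgHom.comp_apply, comp_aeval, ← Ideal.Quotient.mkₐ_eq_mk ℤ, ← AlgHom.comp_apply, comp_aeval]
    congr 2
    funext i
    show g (π (z i)) = Ideal.Quotient.mk _ (X (i, 0) * X (i, 1))
    simp only [z, map_mul, hb]
    rfl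
  have h1 := congrArg g h0
  simp only [map_sub, map_sum, map_add, map_mul, map_pow, map_zero, hX, zero_mul, add_zero, Finset.sum_const_zero, hW',
    ← hf] at h1
  rw [show g (Ideal.Quotient.mk q f) = Ideal.Quotient.mk (Quadric.qIdeal k p) f from rfl, ← map_pow] at h1
  rw [← Ideal.Quotient.eq_zero_iff_mem, map_sub, map_neg, map_neg, sub_neg_eq_add]
  rw [← Ideal.Quotient.eq.2 ha]
  linear_combination -h1

end Groth.Agent.W2Lift
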